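import Groth.Agent.Sga3B.GLn
import Groth.Agent.Sga3B.BcPts
import Groth.Agent.Sga3B.BcIso

/-!
# Base change of linear representations

* `exists_bc`: the base change of a homomorphism `G ⟶ GLS m S`.
* `Central`: `f : G ⟶ H` has central kernel; stable under base change and isomorphisms.
-/

set_option autoImplicit false

universe u

open CategoryTheory MonoidalCategory CartesianMonoidalCategory AlgebraicGeometry MonObj GrpObj

namespace Groth.Agent.Sga3.H819.BcGL

open Sga3B.GLn Sga3B.BcPts

variable {S S' : Scheme.{u}} {m : Type u} [Fintype m] [DecidableEq m]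

/-- The matrix of a point with values in a scheme over `S'`, seen over `S`. -/
noncomputable def matO (q : S' ⟶ S) {T : Over S'} (x : (Over.map q).obj T ⟶ GLS m S) :
    Matrix m m Γ(T.left, ⊤) := mat (T := (Over.map q).obj T) x

lemma matO_comp (q : S' ⟶ S) {T T' : Over S'} (t : T' ⟶ T) (x : (Over.map q).obj T ⟶ GLS m S) :
    matO q ((Over.map q).map t ≫ x) = pull m t.left (matO q x) :=
  mat_comp (T := (Over.map q).obj T) (T' := (Over.map q).obj T') ((Over.map q).map t) x

lemma isUnit_det_matO (q : S' ⟶ S) {T : Over S'} (x : (Over.map q).obj T ⟶ GLS m S) :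
    IsUnit (matO q x).det := isUnit_det_mat (T := (Over.map q).obj T) x

lemma matO_mul (q : S' ⟶ S) {T : Over S'} (x y : (Over.map q).obj T ⟶ GLS m S) :
    matO q (x * y) = matO q x * matO q y := mat_mul (T := (Over.map q).obj T) x y

lemma matO_one (q : S' ⟶ S) {T : Over S'} :
    matO q (1 : (Over.map q).obj T ⟶ GLS m S) = 1 := mat_one (T := (Over.map q).obj T)

lemma matO_injective (q : S' ⟶ S) {T : Over S'} {x y : (Over.map q).obj T ⟶ GLS m S}
    (h : matO q x = matO q y) : x = y := mat_injective (T := (Over.map q).obj T) h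

/-- Base change of a linear representation. -/
theorem exists_bc (q : S' ⟶ S) {G : Over S} [GrpObj G] (f : G ⟶ GLS m S) [IsMonHom f] :
    ∃ f' : Red.bc q G ⟶ GLS m S', IsMonHom f' ∧ ∀ (T : Over S') (g : T ⟶ Red.bc q G),
      mat (g ≫ f') = matO q ((bcEquiv q T G).symm g ≫ f) := by
  let c : (Over.map q).obj (Red.bc q G) ⟶ G := (bcEquiv q _ G).symm (𝟙 _)
  let f' : Red.bc q G ⟶ GLS m S' := ofMat (matO q (c ≫ f)) (isUnit_det_matO q (c ≫ f))
  have key : ∀ (T : Over S') (g : T ⟶ Red.bc q G), mat (g ≫ f') = matO q ((bcEquiv q T G).symm g ≫ f) := by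
    intro T g
    have h1 : (bcEquiv q T G).symm g = (Over.map q).map g ≫ c := by
      have h2 := comp_bcEquiv_symm (f := q) g (𝟙 (Red.bc q G))
      rw [Category.comp_id] at h2
      exact h2
    rw [h1, Category.assoc, matO_comp, mat_comp, mat_ofMat]
  refine ⟨f', isMonHom_of_mat f' fun T x y => ?_, key⟩
  rw [key, key, key]
  have h1 : (bcEquiv q T G).symm (x * y) = (bcEquiv q T G).symm x * (bcEquiv q T G).symm y :=
    (bcMulEquiv q T G).symm.map_mul x y
  rw [h1, MonObj.mul_comp, matO_mul]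

/-- The kernel of the base change. -/
theorem comp_eq_one_iff {q : S' ⟶ S} {G : Over S} [GrpObj G] {f : G ⟶ GLS m S} {f' : Red.bc q G ⟶ GLS m S'}
    (h : ∀ (T : Over S') (g : T ⟶ Red.bc q G), mat (g ≫ f') = matO q ((bcEquiv q T G).symm g ≫ f))
    {T : Over S'} (g : T ⟶ Red.bc q G) : g ≫ f' = 1 ↔ (bcEquiv q T G).symm g ≫ f = 1 := by
  constructor
  · intro h1
    apply matO_injective q
    rw [← h, h1, mat_one, matO_one]
  · intro h1
    apply mat_injective
    rw [h, h1, matO_one, mat_one]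

/-- The kernel of `f` is central. -/
def Central {G H : Over S} [GrpObj G] [GrpObj H] (f : G ⟶ H) : Prop :=
  ∀ (T : Over S) (g : T ⟶ G), g ≫ f = 1 →
    ∀ (T' : Over S) (t : T' ⟶ T) (h : T' ⟶ G), (t ≫ g) * h = h * (t ≫ g)

/-- Base change keeps the kernel central. -/
theorem central_bc {q : S' ⟶ S} {G : Over S} [GrpObj G] {f : G ⟶ GLS m S} {f' : Red.bc q G ⟶ GLS m S'}
    (h : ∀ (T : Over S') (g : T ⟶ Red.bc q G), mat (g ≫ f') = matO q ((bcEquiv q T G).symm g ≫ f))
    (hf : Central f) : Central f' := by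
  intro T g hg T' t x
  have h1 := hf _ _ ((comp_eq_one_iff h g).1 hg) _ ((Over.map q).map t) ((bcEquiv q T' G).symm x)
  rw [← comp_bcEquiv_symm] at h1
  have h2 : (bcMulEquiv q T' G).symm ((t ≫ g) * x) = (bcMulEquiv q T' G).symm (x * (t ≫ g)) := by
    rw [map_mul, map_mul]
    exact h1
  exact (bcMulEquiv q T' G).symm.injective h2

/-- Transport along an isomorphism of groups. -/
theorem central_of_iso {G G' H : Over S} [GrpObj G] [GrpObj G'] [GrpObj H] {f : G ⟶ H} (hf : Central f)
    (e : Grp.mk G' ≅ Grp.mk G) : Central (e.hom.hom.hom ≫ f) := by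
  intro T g hg T' t x
  rw [← Category.assoc] at hg
  have h1 := hf _ _ hg T' t (x ≫ e.hom.hom.hom)
  have hm : Mono e.hom.hom.hom := by
    have h2 : e.hom.hom.hom ≫ e.inv.hom.hom = 𝟙 G' := congrArg (fun k => k.hom.hom) e.hom_inv_id
    exact mono_of_mono_fac h2
  have hmon : IsMonHom e.hom.hom.hom := e.hom.hom.isMonHom_hom
  rw [← cancel_mono e.hom.hom.hom, MonObj.mul_comp, MonObj.mul_comp, Category.assoc]
  exact h1

end Groth.Agent.Sga3.H819.BcGL
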