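import Groth.Agent.Sga3.H819.CentRep
import Groth.Agent.Sga3.H819.BcGL
import Groth.Agent.Sga3.H806.ApproxConn
import Groth.Agent.Sga3.H813.FreePow
import Groth.Agent.Sga3B.AdAff
import Groth.Agent.Sga3C.GrpIrr

/-!
# Linear representations with central kernel, locally on any base

* `exists_rep_noeth`: over a noetherian ring.
* `exists_rep_central`: `G` a smooth separated quasi-compact group scheme with connected fibres over any base `S`:
  Zariski-locally on `S` there is a homomorphism `G ⟶ GL_m` with central kernel.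
-/

set_option autoImplicit false

universe u

open CategoryTheory MonoidalCategory CartesianMonoidalCategory AlgebraicGeometry MonObj GrpObj Limits

namespace Groth.Agent.Sga3.H819.CentKer

open Sga3B.GLn Sga3B.BcPts Sga3B.AdRep BcGL

/-- The noetherian case. -/
theorem exists_rep_noeth {R : Type u} [CommRing R] [IsNoetherianRing R] (G : Over (Spec (CommRingCat.of R)))
    [GrpObj G] [Smooth G.hom] [QuasiCompact G.hom] [IsSeparated G.hom]
    (hconn : ∀ s, _root_.IsConnected (G.hom ⁻¹' {s})) (s : Spec (CommRingCat.of R)) :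
    ∃ (R' : Type u) (_ : CommRing R') (q : Spec (CommRingCat.of R') ⟶ Spec (CommRingCat.of R)),
      IsOpenImmersion q ∧ s ∈ Set.range q ∧ ∃ (m : Type u) (_ : Fintype m) (_ : DecidableEq m)
        (f : Red.bc q G ⟶ GLS m (Spec (CommRingCat.of R'))), IsMonHom f ∧ Central f := by
  obtain ⟨R', B, _, _, _, q, w, eW, hq, hs, hst, hw, heW⟩ := Sga3B.AdAff.exists_chart G s
  obtain ⟨ε, -, hε⟩ := Sga3B.CentralTorus.exists_augHom eW
  have haug : augIdeal eW = RingHom.ker ε := Ideal.ext hε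
  have hfree : ∀ n, Module.Free R' (B ⧸ augIdeal eW ^ n) ∧ Module.Finite R' (B ⧸ augIdeal eW ^ n) := by
    intro n
    rw [haug]
    exact H813.FreePow.free_pow ε n
  have hn : IsNoetherianRing R' := by
    have h1 : IsLocallyNoetherian (Spec (CommRingCat.of R)) := inferInstance
    have h2 : IsLocallyNoetherian (Spec (CommRingCat.of R')) := isLocallyNoetherian_of_isOpenImmersion q
    exact isLocallyNoetherian_Spec.1 h2
  have hgi : GeometricallyIrreducible G.hom := by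
    have : GrpObj (Over.mk G.hom) := ‹GrpObj G›
    exact Sga3C.GrpIrr.geometricallyIrreducible_of_connected_fibres G.hom hconn
  have h0 : Smooth (Red.bc q G).hom := inferInstanceAs (Smooth (pullback.snd _ _))
  have h1 : QuasiCompact (Red.bc q G).hom := inferInstanceAs (QuasiCompact (pullback.snd _ _))
  have h2 : IsSeparated (Red.bc q G).hom := inferInstanceAs (IsSeparated (pullback.snd _ _))
  have h3 : GeometricallyIrreducible (Red.bc q G).hom :=
    inferInstanceAs (GeometricallyIrreducible (pullback.snd _ _))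
  obtain ⟨m, i1, i2, f, hf, hker⟩ := CentRep.exists_rep_center w eW heW
    (fun n => (hfree (n + 1)).1) (fun n => (hfree (n + 1)).2)
  exact ⟨R', inferInstance, q, hq, hs, m, i1, i2, f, hf, fun T g hg => (hker T g).1 hg⟩

/-- Transport of a linear representation with central kernel. -/
theorem transfer {S S₁ S₀ S' U : Scheme.{u}} (u : U ⟶ S) (u₁ : U ⟶ S₁) (q₁ : S₁ ⟶ S) (hu₁ : u₁ ≫ q₁ = u)
    (t : S₁ ⟶ S₀) (u₀ : U ⟶ S') (q₀ : S' ⟶ S₀) (hu₀ : u₀ ≫ q₀ = u₁ ≫ t) (G : Over S) [GrpObj G]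
    (G₀ : Over S₀) [GrpObj G₀] (e : Grp.mk (Red.bc t G₀) ≅ Grp.mk (Red.bc q₁ G))
    {m : Type u} [Fintype m] [DecidableEq m] (f₀ : Red.bc q₀ G₀ ⟶ GLS m S') [IsMonHom f₀] (hc₀ : Central f₀) :
    ∃ ρ : Red.bc u G ⟶ GLS m U, IsMonHom ρ ∧
      ∀ (X : Over U) (x y : X ⟶ Red.bc u G), x ≫ ρ = 1 → x * y = y * x := by
  obtain ⟨E⟩ : Nonempty (Grp.mk (Red.bc u G) ≅ Grp.mk (Red.bc u₀ (Red.bc q₀ G₀))) :=
    ⟨Sga3B.BcIso.bcCongrIso hu₁.symm G ≪≫ Sga3B.BcIso.bcCompIso u₁ q₁ G ≪≫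
      Sga3B.BcIso.bcMapIso u₁ e.symm ≪≫ (Sga3B.BcIso.bcCompIso u₁ t G₀).symm ≪≫
      Sga3B.BcIso.bcCongrIso hu₀.symm G₀ ≪≫ Sga3B.BcIso.bcCompIso u₀ q₀ G₀⟩
  obtain ⟨f', hf', hmat⟩ := exists_bc u₀ f₀
  have hc' : Central f' := central_bc hmat hc₀
  have hc := central_of_iso hc' E
  have hE : IsMonHom E.hom.hom.hom := E.hom.hom.isMonHom_hom
  refine ⟨E.hom.hom.hom ≫ f', inferInstance, fun X x y hx => ?_⟩
  have h9 := hc X x hx X (𝟙 X) y
  rwa [Category.id_comp] at h9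

/-- Connected fibres are stable under base change for group schemes. -/
theorem isConnected_bc {S S₁ : Scheme.{u}} (q : S₁ ⟶ S) (G : Over S) [GrpObj G] [Smooth G.hom]
    (hconn : ∀ s : S, _root_.IsConnected (G.hom.base ⁻¹' {s})) (s : S₁) :
    _root_.IsConnected ((Red.bc q G).hom ⁻¹' {s}) := by
  have hgi : GeometricallyIrreducible G.hom := by
    have : GrpObj (Over.mk G.hom) := ‹GrpObj G›
    exact Sga3C.GrpIrr.geometricallyIrreducible_of_connected_fibres G.hom hconn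
  have h3 : GeometricallyIrreducible (Red.bc q G).hom :=
    inferInstanceAs (GeometricallyIrreducible (pullback.snd _ _))
  have h0 : Smooth (Red.bc q G).hom := inferInstanceAs (Smooth (pullback.snd _ _))
  have h4 : UniversallyOpen (Red.bc q G).hom := inferInstance
  generalize (Red.bc q G).hom = g at *
  have h6 : IrreducibleSpace ↥(pullback g (S₁.fromSpecResidueField s)) :=
    GeometricallyIrreducible.irreducibleSpace_of_subsingleton (pullback.snd g (S₁.fromSpecResidueField s))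
  have h8 : ConnectedSpace ↑(g ⁻¹' {s}) :=
    (g.fiberHomeo s).surjective.connectedSpace (g.fiberHomeo s).continuous
  exact isConnected_iff_connectedSpace.mpr h8

/-- The case of an affine base. -/
theorem exists_of_ring {R₁ : Type u} [CommRing R₁] (G₁ : Over (Spec (CommRingCat.of R₁))) [GrpObj G₁]
    [Smooth G₁.hom] [QuasiCompact G₁.hom] [IsSeparated G₁.hom]
    (hconn₁ : ∀ s, _root_.IsConnected (G₁.hom ⁻¹' {s})) (s₁ : Spec (CommRingCat.of R₁)) :
    ∃ (S₀ S' : Scheme.{u}) (t : Spec (CommRingCat.of R₁) ⟶ S₀) (q₀ : S' ⟶ S₀) (_ : IsOpenImmersion q₀)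
      (G₀ : Over S₀) (_ : GrpObj G₀) (_ : Grp.mk (Red.bc t G₀) ≅ Grp.mk G₁) (m : Type u) (_ : Fintype m)
      (_ : DecidableEq m) (f₀ : Red.bc q₀ G₀ ⟶ GLS m S'), IsMonHom f₀ ∧ Central f₀ ∧
      t s₁ ∈ Set.range q₀ := by
  obtain ⟨R₀, G₀, hG₀, hfg, h5, h6, h7, h8, ⟨e⟩⟩ := H806.ApproxConn.exists_noetherian_conn G₁ hconn₁
  have hn : IsNoetherianRing R₀ := by
    have : Algebra.FiniteType ℤ R₀ := (Subalgebra.fg_iff_finiteType R₀).1 hfg
    exact Algebra.FiniteType.isNoetherianRing ℤ R₀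
  obtain ⟨R', _, q₀, hq₀, hs₀, m, i1, i2, f₀, hf₀, hc₀⟩ := exists_rep_noeth G₀ h8
    ((Spec.map (CommRingCat.ofHom R₀.val.toRingHom)) s₁)
  exact ⟨_, _, Spec.map (CommRingCat.ofHom R₀.val.toRingHom), q₀, hq₀, G₀, hG₀, e, m, i1, i2, f₀, hf₀, hc₀, hs₀⟩

/-- **Linear representations with central kernel**, Zariski-locally on any base. -/
theorem exists_rep_central {S : Scheme.{u}} (G : Over S) [GrpObj G] [Smooth G.hom] [QuasiCompact G.hom]
    [IsSeparated G.hom] (hconn : ∀ s : S, _root_.IsConnected (G.hom.base ⁻¹' {s})) (s : S) :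
    ∃ U : S.Opens, s ∈ U ∧ IsAffineOpen U ∧ ∃ (m : Type u) (_ : Fintype m) (_ : DecidableEq m)
      (ρ : Red.bc U.ι G ⟶ Sga3B.GLn.GLS m (U : Scheme.{u})), IsMonHom ρ ∧
        ∀ (X : Over (U : Scheme.{u})) (x y : X ⟶ Red.bc U.ι G), x ≫ ρ = 1 → x * y = y * x := by
  -- an affine neighbourhood
  obtain ⟨R₁, _, q₁, hq₁, s₁, hs₁⟩ : ∃ (R₁ : Type u) (_ : CommRing R₁) (q₁ : Spec (CommRingCat.of R₁) ⟶ S),
      IsOpenImmersion q₁ ∧ s ∈ Set.range q₁ := by
    obtain ⟨_, ⟨U₁, hU₁, rfl⟩, hs₁, -⟩ :=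
      S.isBasis_affineOpens.exists_subset_of_mem_open (Set.mem_univ s) isOpen_univ
    have hU₁ : IsAffineOpen U₁ := hU₁
    refine ⟨Γ(S, U₁), inferInstance, hU₁.fromSpec, inferInstance, ?_⟩
    rw [hU₁.range_fromSpec]
    exact hs₁
  have h0 : Smooth (Red.bc q₁ G).hom := inferInstanceAs (Smooth (pullback.snd _ _))
  have h1 : QuasiCompact (Red.bc q₁ G).hom := inferInstanceAs (QuasiCompact (pullback.snd _ _))
  have h2 : IsSeparated (Red.bc q₁ G).hom := inferInstanceAs (IsSeparated (pullback.snd _ _))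
  obtain ⟨S₀, S', t, q₀, hq₀, G₀, hG₀, e, m, i1, i2, f₀, hf₀, hc₀, hs₀⟩ :=
    exists_of_ring (Red.bc q₁ G) (isConnected_bc q₁ G hconn) s₁
  -- the neighbourhood
  let V : S.Opens := q₁ ''ᵁ (t ⁻¹ᵁ q₀.opensRange)
  have hsV : s ∈ V := ⟨s₁, hs₀, hs₁⟩
  obtain ⟨U, hU, hsU, hUV⟩ : ∃ U : S.Opens, IsAffineOpen U ∧ s ∈ U ∧ ∀ x ∈ U, ∃ z, t z ∈ Set.range q₀ ∧ q₁ z = x := by
    obtain ⟨_, ⟨U, hU, rfl⟩, hsU, hUV⟩ :=
      S.isBasis_affineOpens.exists_subset_of_mem_open hsV V.isOpen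
    refine ⟨U, hU, hsU, fun x hx => ?_⟩
    obtain ⟨z, hz, hzx⟩ := hUV hx
    exact ⟨z, hz, hzx⟩
  have hr₁ : Set.range U.ι ⊆ Set.range q₁ := by
    rw [Scheme.Opens.range_ι]
    intro x hx
    obtain ⟨z, -, hz⟩ := hUV x hx
    exact ⟨z, hz⟩
  obtain ⟨u₁, hu₁⟩ : ∃ u₁ : (U : Scheme.{u}) ⟶ Spec (CommRingCat.of R₁), u₁ ≫ q₁ = U.ι :=
    ⟨IsOpenImmersion.lift q₁ U.ι hr₁, IsOpenImmersion.lift_fac _ _ _⟩
  have hr₀ : Set.range (u₁ ≫ t) ⊆ Set.range q₀ := by
    rintro _ ⟨x, rfl⟩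
    obtain ⟨z, hz, hzx⟩ := hUV x.1 x.2
    have h9 : u₁ x = z := by
      apply q₁.injective
      rw [hzx, ← Scheme.Hom.comp_apply, hu₁]
      rfl
    rw [Scheme.Hom.comp_apply, h9]
    exact hz
  obtain ⟨ρ, hρ, hc⟩ := transfer U.ι u₁ q₁ hu₁ t (IsOpenImmersion.lift q₀ (u₁ ≫ t) hr₀) q₀
    (IsOpenImmersion.lift_fac _ _ _) G G₀ e f₀ hc₀
  exact ⟨U, hsU, hU, m, i1, i2, ρ, hρ, hc⟩

end Groth.Agent.Sga3.H819.CentKer
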