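import Groth.Agent.Sga3.H765.TorsFix
import Groth.Agent.Sga3.H812.Loc
import Groth.Agent.Sga3B.MaxTorBc636

/-!
# From conjugacy classes of torsion points to conjugacy classes of tori

`τ : T ⟶ Q` a subgroup, `φ₀ : Γ → Q(S)` a finite group of sections, `q : Q ⟶ 𝒯` a morphism identifying two points
`g, h` iff locally `int(g) φ₀ = int(h) φ₀ ∘ α` for an automorphism `α` of `Γ`.

* `eQ_of_qIff`: then `q` identifies `g, h` iff `int(g) T = int(h) T` (`RepCrit.EQ τ q`), as soon as the points normalizing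
  `φ₀(Γ)` normalize `T` and the points normalizing `T` locally permute `φ₀(Γ)`.
* `norm_of_perm`, `perm_of_norm`: these two conditions for `T = D(M)` self-centralizing.
* `eQ_pull`: transport along a faithfully flat homomorphism `p : G ⟶ Q`.
-/

set_option autoImplicit false

universe u

open CategoryTheory MonoidalCategory CartesianMonoidalCategory MonObj GrpObj AlgebraicGeometry Limits

namespace Groth.Agent.Sga3.H819.EqTrans

open Groth.Agent.Redsub.H649.ConjPts Groth.Agent.Sga3.H813.RepCrit Groth.Agent.Sga3.H812.Loc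
open Groth.Agent.Sga3B.MaxTorBc636

section group

variable {H : Type*} [Group H]

lemma g1 {a b x y : H} (h : a * x * a⁻¹ = b * y * b⁻¹) : (b⁻¹ * a) * x * (b⁻¹ * a)⁻¹ = y := by
  calc (b⁻¹ * a) * x * (b⁻¹ * a)⁻¹ = b⁻¹ * (a * x * a⁻¹) * b := by group
    _ = y := by rw [h]; group

lemma g2 {a b x y : H} (h : (b⁻¹ * a) * x * (b⁻¹ * a)⁻¹ = y) : a * x * a⁻¹ = b * y * b⁻¹ := by
  rw [← h]; group

lemma g3 {a b t t' γ : H} (h : t = a⁻¹ * γ * a) (h' : t' = (b⁻¹ * a) * t * (b⁻¹ * a)⁻¹) : t' = b⁻¹ * γ * b := by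
  rw [h', h]; group

end group

section abs

variable {S : Scheme.{u}} {T Q 𝒯 : Over S} [GrpObj Q] (τ : T ⟶ Q) (q : Q ⟶ 𝒯) {Γ : Type} [CommGroup Γ]
  (φ₀ : Γ →* (𝟙_ (Over S) ⟶ Q))

/-- `q` identifies two points iff locally the conjugates of `φ₀` differ by an automorphism of `Γ`. -/
def QIff : Prop :=
  ∀ (X : Over S) (g h : X ⟶ Q), g ≫ q = h ≫ q ↔ ∀ x : X.left, ∃ (X' : Over S) (j : X' ⟶ X),
    IsOpenImmersion j.left ∧ x ∈ Set.range j.left ∧ ∃ α : MulAut Γ, ∀ γ,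
      (j ≫ g) * (toUnit X' ≫ φ₀ γ) * (j ≫ g)⁻¹ = (j ≫ h) * (toUnit X' ≫ φ₀ (α γ)) * (j ≫ h)⁻¹

/-- the point `k` maps points of `τ` to points of `τ` -/
def Nm {X : Over S} (k : X ⟶ Q) : Prop :=
  ∀ (Y : Over S) (y : Y ⟶ X) (t : Y ⟶ T), ∃ t' : Y ⟶ T, t' ≫ τ = (y ≫ k) * (t ≫ τ) * (y ≫ k)⁻¹

/-- the point `k` permutes the points of `φ₀` -/
def Perm {X : Over S} (k : X ⟶ Q) : Prop :=
  ∃ α : MulAut Γ, ∀ γ, k * (toUnit X ≫ φ₀ γ) * k⁻¹ = toUnit X ≫ φ₀ (α γ)

variable {τ q φ₀}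

theorem eQ_of_qIff [Mono τ] (hnorm : ∀ (X : Over S) (k : X ⟶ Q), Perm φ₀ k → Nm τ k)
    (hperm : ∀ (X : Over S) (k : X ⟶ Q), Nm τ k → ∀ x : X.left, ∃ (X' : Over S) (j : X' ⟶ X),
      IsOpenImmersion j.left ∧ x ∈ Set.range j.left ∧ Perm φ₀ (j ≫ k))
    (hq : QIff q φ₀) : EQ τ q := by
  have key : ∀ (Y : Over S) (a b γ : Y ⟶ Q), a ≫ q = b ≫ q → InC τ a γ → InC τ b γ := by
    intro Y a b γ hab h
    refine InC.of_local τ fun x => ?_
    obtain ⟨X', j, hj, hx, α, hα⟩ := (hq Y a b).1 hab x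
    refine ⟨X', j, hj, hx, ?_⟩
    have h1 : Nm τ ((j ≫ b)⁻¹ * (j ≫ a)) := hnorm X' _ ⟨α, fun γ => g1 (hα γ)⟩
    obtain ⟨t, ht⟩ := InC.comp τ h j
    obtain ⟨t', ht'⟩ := h1 X' (𝟙 _) t
    rw [Category.id_comp] at ht'
    exact ⟨t', g3 ht ht'⟩
  intro X a b
  constructor
  · intro hab Y y γ
    have h1 : (y ≫ a) ≫ q = (y ≫ b) ≫ q := by rw [Category.assoc, Category.assoc, hab]
    exact ⟨key Y _ _ γ h1, key Y _ _ γ h1.symm⟩
  · intro H
    rw [hq]
    intro x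
    have h1 : Nm τ (b⁻¹ * a) := by
      intro Y y t
      obtain ⟨t', ht'⟩ := (H Y y ((y ≫ a) * (t ≫ τ) * (y ≫ a)⁻¹)).1 ⟨t, by group⟩
      refine ⟨t', ?_⟩
      rw [ht', MonObj.comp_mul, GrpObj.comp_inv]
      group
    obtain ⟨X', j, hj, hx, α, hα⟩ := hperm X _ h1 x
    refine ⟨X', j, hj, hx, α, fun γ => ?_⟩
    have h2 := hα γ
    rw [MonObj.comp_mul, GrpObj.comp_inv] at h2
    exact g2 h2

/-- Points normalizing a subgroup locally permute its torsion points. -/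
theorem perm_of_norm [GrpObj T] [IsMonHom τ] [Mono τ] [Finite Γ] {ψ : Γ →* (𝟙_ (Over S) ⟶ T)}
    (hψ : ∀ γ, φ₀ γ = ψ γ ≫ τ) {N : ℕ} (hN : ∀ γ : Γ, γ ^ N = 1)
    (htors : ∀ (X : Over S) (x : X ⟶ T), x ^ N = 1 → ∀ p : X.left, ∃ (X' : Over S) (j : X' ⟶ X),
      IsOpenImmersion j.left ∧ p ∈ Set.range j.left ∧ ∃ γ, j ≫ x = toUnit X' ≫ ψ γ)
    (hinj : ∀ (X : Over S) (γ : Γ), Nonempty X.left → toUnit X ≫ φ₀ γ = 1 → γ = 1)
    (X : Over S) (k : X ⟶ Q) (hk : Nm τ k) (x : X.left) : ∃ (X' : Over S) (j : X' ⟶ X),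
      IsOpenImmersion j.left ∧ x ∈ Set.range j.left ∧ Perm φ₀ (j ≫ k) := by
  classical
  have h0 := fun γ => hk X (𝟙 X) (toUnit X ≫ ψ γ)
  choose t ht using h0
  have ht' : ∀ γ, t γ ≫ τ = k * (toUnit X ≫ φ₀ γ) * k⁻¹ := by
    intro γ
    rw [ht, Category.id_comp, hψ, Category.assoc]
  have htm : ∀ γ δ, t (γ * δ) = t γ * t δ := by
    intro γ δ
    rw [← cancel_mono τ, MonObj.mul_comp, ht', ht', ht', map_mul, MonObj.comp_mul]
    group
  have ht1 : t 1 = 1 := by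
    have := htm 1 1
    rw [_root_.mul_one] at this
    exact (left_eq_mul.mp this)
  let tt : Γ →* (X ⟶ T) := ⟨⟨t, ht1⟩, htm⟩
  have htN : ∀ γ, t γ ^ N = 1 := by
    intro γ
    have h1 : tt γ ^ N = tt (γ ^ N) := (map_pow tt γ N).symm
    rw [hN, map_one] at h1
    exact h1
  cases nonempty_fintype Γ
  have hs : ∀ s : Finset Γ, ∃ (X' : Over S) (j : X' ⟶ X), IsOpenImmersion j.left ∧ x ∈ Set.range j.left ∧
      ∃ β : Γ → Γ, ∀ γ ∈ s, j ≫ t γ = toUnit X' ≫ ψ (β γ) := by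
    intro s
    induction s using Finset.induction_on with
    | empty =>
      exact ⟨X, 𝟙 X, by rw [Over.id_left]; infer_instance, ⟨x, rfl⟩, id, fun γ hγ => absurd hγ (Finset.notMem_empty _)⟩
    | insert γ₀ s hγ₀ ih =>
      obtain ⟨X', j, hj, ⟨x', rfl⟩, β, hβ⟩ := ih
      obtain ⟨X'', j', hj', ⟨x'', hx''⟩, δ, hδ⟩ := htors X' (j ≫ t γ₀) (by
        rw [← MonObj.comp_pow, htN]
        exact MonObj.comp_one _) x'
      refine ⟨X'', j' ≫ j, ?_, ⟨x'', ?_⟩, Function.update β γ₀ δ, fun γ hγ => ?_⟩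
      · rw [Over.comp_left]
        infer_instance
      · rw [Over.comp_left, Scheme.Hom.comp_apply, hx'']
      · rcases Finset.mem_insert.1 hγ with rfl | h
        · rw [Function.update_self, Category.assoc, hδ]
        · rw [Function.update_of_ne (fun (h' : γ = γ₀) => hγ₀ (h' ▸ h)), Category.assoc, hβ γ h, ← Category.assoc]
          congr 1
          exact toUnit_unique _ _
  obtain ⟨X', j, hj, hx, β, hβ⟩ := hs Finset.univ
  have hne : Nonempty X'.left := by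
    obtain ⟨x', -⟩ := hx
    exact ⟨x'⟩
  have hβ' : ∀ γ, j ≫ t γ = toUnit X' ≫ ψ (β γ) := fun γ => hβ γ (Finset.mem_univ _)
  have hinj' : ∀ γ δ, toUnit X' ≫ ψ γ = toUnit X' ≫ ψ δ → γ = δ := by
    intro γ δ h
    have h1 : toUnit X' ≫ φ₀ (γ * δ⁻¹) = 1 := by
      rw [map_mul, map_inv, MonObj.comp_mul, GrpObj.comp_inv, hψ, hψ, ← Category.assoc, h, Category.assoc,
        mul_inv_cancel]
    exact mul_inv_eq_one.1 (hinj X' _ hne h1)
  have hβm : ∀ γ δ, β (γ * δ) = β γ * β δ := by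
    intro γ δ
    apply hinj'
    rw [map_mul, MonObj.comp_mul, ← hβ', ← hβ', ← hβ', htm, MonObj.comp_mul]
  have hβ1 : β 1 = 1 := by
    have := hβm 1 1
    rw [_root_.mul_one] at this
    exact (left_eq_mul.mp this)
  let B : Γ →* Γ := ⟨⟨β, hβ1⟩, hβm⟩
  have hBi : Function.Injective B := by
    rw [injective_iff_map_eq_one]
    intro γ hγ
    have h1 : j ≫ t γ = 1 := by
      rw [hβ']
      have h2 : β γ = 1 := hγ
      rw [h2, map_one, MonObj.comp_one]
    apply hinj X' γ hne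
    have h2 : j ≫ (t γ ≫ τ) = 1 := by
      rw [← Category.assoc, h1, MonObj.one_comp]
    rw [ht', MonObj.comp_mul, MonObj.comp_mul, GrpObj.comp_inv, ← Category.assoc j (toUnit X), comp_toUnit] at h2
    have h3 : toUnit X' ≫ φ₀ γ = (j ≫ k)⁻¹ * ((j ≫ k) * (toUnit X' ≫ φ₀ γ) * (j ≫ k)⁻¹) * (j ≫ k) := by group
    rw [h3, h2]
    group
  let α : MulAut Γ := MulEquiv.ofBijective B (Finite.injective_iff_bijective.1 hBi)
  refine ⟨X', j, hj, hx, α, fun γ => ?_⟩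
  have h1 : j ≫ (t γ ≫ τ) = toUnit X' ≫ φ₀ (β γ) := by
    rw [← Category.assoc, hβ', hψ, Category.assoc]
  rw [ht', MonObj.comp_mul, MonObj.comp_mul, GrpObj.comp_inv, ← Category.assoc j (toUnit X), comp_toUnit] at h1
  exact h1

/-- Points over fields are enough to test injectivity. -/
lemma inj_of_field (hfree : ∀ (K : Type u) [Field K] (f : Spec (.of K) ⟶ S) (γ : Γ),
      toUnit (Over.mk f) ≫ φ₀ γ = 1 → γ = 1) (X : Over S) (γ : Γ) (hX : Nonempty X.left)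
    (h : toUnit X ≫ φ₀ γ = 1) : γ = 1 := by
  obtain ⟨x⟩ := hX
  let f : Spec (X.left.residueField x) ⟶ X.left := X.left.fromSpecResidueField x
  refine hfree (X.left.residueField x) (f ≫ X.hom) γ ?_
  let c : Over.mk (f ≫ X.hom) ⟶ X := Over.homMk f rfl
  have h1 : c ≫ toUnit X ≫ φ₀ γ = 1 := by
    rw [h]
    exact MonObj.comp_one _
  rw [← Category.assoc, comp_toUnit] at h1
  exact h1

/-- `H803.EtTors.Gen ψ n` in terms of open immersions. -/
lemma tors_of_gen [GrpObj T] {ψ : Γ →* (𝟙_ (Over S) ⟶ T)} {N : ℕ}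
    (h : ∀ (X : Over S) (t : X ⟶ T), t ^ N = 1 → ∀ x : X.left, ∃ (V : X.left.Opens) (γ : Γ), x ∈ V ∧
      (Over.homMk V.ι rfl : Over.mk (V.ι ≫ X.hom) ⟶ X) ≫ t = toUnit (Over.mk (V.ι ≫ X.hom)) ≫ ψ γ)
    (X : Over S) (x : X ⟶ T) (hx : x ^ N = 1) (p : X.left) : ∃ (X' : Over S) (j : X' ⟶ X),
      IsOpenImmersion j.left ∧ p ∈ Set.range j.left ∧ ∃ γ, j ≫ x = toUnit X' ≫ ψ γ := by
  obtain ⟨V, γ, hp, hV⟩ := h X x hx p
  refine ⟨Over.mk (V.ι ≫ X.hom), Over.homMk V.ι rfl, inferInstanceAs (IsOpenImmersion V.ι), ?_, γ, hV⟩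
  change p ∈ Set.range V.ι
  rw [Scheme.Opens.range_ι]
  exact hp

/-- Membership in a conjugate descends along faithfully flat morphisms. -/
lemma inC_of_cover [Mono τ] {Y Y' : Over S} (c : Y' ⟶ Y) [Flat c.left] [Surjective c.left]
    [LocallyOfFinitePresentation c.left] {a γ : Y ⟶ Q} (h : InC τ (c ≫ a) (c ≫ γ)) : InC τ a γ := by
  obtain ⟨x, hx⟩ := h
  refine exists_lift_of_epi τ _ c.left x.left ?_
  rw [← Over.comp_left, hx, ← Over.comp_left]
  congr 1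
  simp only [MonObj.comp_mul, GrpObj.comp_inv]

section pull

variable {G T' : Over S} [GrpObj G] (i : T' ⟶ G) (p : G ⟶ Q) [IsMonHom p]

lemma inC_pull (hT : ∀ (X : Over S) (x : X ⟶ G), (∃ t, t ≫ i = x) ↔ ∃ t, t ≫ τ = x ≫ p) {X : Over S}
    (a γ : X ⟶ G) : InC i a γ ↔ InC τ (a ≫ p) (γ ≫ p) := by
  have h1 : (a⁻¹ * γ * a) ≫ p = (a ≫ p)⁻¹ * (γ ≫ p) * (a ≫ p) := by
    rw [MonObj.mul_comp, MonObj.mul_comp, GrpObj.inv_comp]
  rw [InC, hT, h1]
  rfl

variable {i p}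

/-- **Transport along a faithfully flat homomorphism.** -/
theorem eQ_pull [Mono τ] [Flat p.left] [Surjective p.left] [LocallyOfFinitePresentation p.left]
    (hT : ∀ (X : Over S) (x : X ⟶ G), (∃ t, t ≫ i = x) ↔ ∃ t, t ≫ τ = x ≫ p) (h : EQ τ q) :
    EQ i (p ≫ q) := by
  intro X a b
  rw [← Category.assoc, ← Category.assoc, h X (a ≫ p) (b ≫ p)]
  constructor
  · intro H Y y γ
    rw [inC_pull i p hT, inC_pull i p hT, Category.assoc, Category.assoc]
    exact H Y y (γ ≫ p)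
  · intro H Y y γ'
    let Y' : Over S := Over.mk (pullback.fst γ'.left p.left ≫ Y.hom)
    let c : Y' ⟶ Y := Over.homMk (pullback.fst γ'.left p.left) rfl
    let γ : Y' ⟶ G := Over.homMk (pullback.snd γ'.left p.left) (by
      change _ = pullback.fst γ'.left p.left ≫ Y.hom
      rw [← Over.w p, ← Over.w γ', pullback.condition_assoc])
    have hγ : γ ≫ p = c ≫ γ' := by
      ext1
      exact pullback.condition.symm
    have c1 : Flat c.left := inferInstanceAs (Flat (pullback.fst γ'.left p.left))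
    have c2 : Surjective c.left := inferInstanceAs (Surjective (pullback.fst γ'.left p.left))
    have c3 : LocallyOfFinitePresentation c.left :=
      inferInstanceAs (LocallyOfFinitePresentation (pullback.fst γ'.left p.left))
    have key := H Y' (c ≫ y) γ
    rw [inC_pull i p hT, inC_pull i p hT, hγ] at key
    simp only [Category.assoc] at key
    constructor
    · intro h1
      exact inC_of_cover c (key.1 (InC.comp τ h1 c))
    · intro h1
      exact inC_of_cover c (key.2 (InC.comp τ h1 c))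

/-- The preimage of a subgroup containing the kernel. -/
theorem mem_iff_of_quotient [GrpObj T] [GrpObj T'] [IsMonHom i] [Mono i] [IsMonHom τ]
    (hK : ∀ (X : Over S) (x : X ⟶ G), x ≫ p = 1 → ∃ t, t ≫ i = x) (π : T' ⟶ T) [Flat π.left]
    [Surjective π.left] [LocallyOfFinitePresentation π.left] (hπ : i ≫ p = π ≫ τ) (X : Over S) (x : X ⟶ G) :
    (∃ t, t ≫ i = x) ↔ ∃ t, t ≫ τ = x ≫ p := by
  constructor
  · rintro ⟨t, rfl⟩
    exact ⟨t ≫ π, by rw [Category.assoc, Category.assoc, hπ]⟩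
  · rintro ⟨t, ht⟩
    let X' : Over S := Over.mk (pullback.fst t.left π.left ≫ X.hom)
    let c : X' ⟶ X := Over.homMk (pullback.fst t.left π.left) rfl
    let t' : X' ⟶ T' := Over.homMk (pullback.snd t.left π.left) (by
      change _ = pullback.fst t.left π.left ≫ X.hom
      rw [← Over.w π, ← Over.w t, pullback.condition_assoc])
    have ht' : t' ≫ π = c ≫ t := by
      ext1
      exact pullback.condition.symm
    have c1 : Flat c.left := inferInstanceAs (Flat (pullback.fst t.left π.left))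
    have c2 : Surjective c.left := inferInstanceAs (Surjective (pullback.fst t.left π.left))
    have c3 : LocallyOfFinitePresentation c.left :=
      inferInstanceAs (LocallyOfFinitePresentation (pullback.fst t.left π.left))
    obtain ⟨s, hs⟩ := hK X' ((c ≫ x) * (t' ≫ i)⁻¹) (by
      rw [MonObj.mul_comp, GrpObj.inv_comp, Category.assoc, Category.assoc, hπ, ← ht, ← Category.assoc t',
        ht', Category.assoc, mul_inv_cancel])
    have h1 : (s * t') ≫ i = c ≫ x := by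
      rw [MonObj.mul_comp, hs, inv_mul_cancel_right]
    exact exists_lift_of_epi i x c.left (s * t').left (by rw [← Over.comp_left, h1, ← Over.comp_left])

end pull

end abs

section tors

open Groth.Agent.Sga3B.DSPts Groth.Agent.Sga3B.GLn Groth.Agent.Sga3.H765.WtMat Groth.Agent.Sga3.H765.TorsFix

variable {R : Type u} [CommRing R] {M : Type} [AddCommGroup M] [DecidableEq M] {m : Type u} [Fintype m]
  [DecidableEq m] {Q : Over (Spec (CommRingCat.of R))} [GrpObj Q]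
  (ρ : Q ⟶ GLS m (Spec (CommRingCat.of R))) [IsMonHom ρ] [Mono ρ]
  (τ : Red.DS (Spec (CommRingCat.of R)) M ⟶ Q) [IsMonHom τ]
  {Λ : Finset M} {e : M → Matrix m m R} (he : IsWt Λ e)
  (hρ : ∀ (X : Over (Spec (CommRingCat.of R))) (x : X ⟶ Red.DS _ M),
        mat (x ≫ τ ≫ ρ) = val (st X) Λ e (dsChar x))
  {Γ : Type} [CommGroup Γ] [Fintype Γ]
  (ψ : Γ →* (𝟙_ (Over (Spec (CommRingCat.of R))) ⟶ Red.DS _ M)) (hs : Sep (chiR ψ) Λ)
  {φ₀ : Γ →* (𝟙_ (Over (Spec (CommRingCat.of R))) ⟶ Q)} (hφ₀ : ∀ γ, φ₀ γ = ψ γ ≫ τ)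

include he hρ hs hφ₀ in
/-- Points permuting the torsion points of `τ` normalize `τ`. -/
theorem norm_of_perm (hself : SelfC τ) (X : Over (Spec (CommRingCat.of R))) (k : X ⟶ Q)
    (hk : Perm φ₀ k) : Nm τ k := by
  obtain ⟨α, hα⟩ := hk
  intro Y y t
  refine hself Y _ fun X' x s => ?_
  have h1 := commute_conj_of_tors ρ τ he hρ ψ hs k α (fun γ => by rw [← hφ₀, ← hφ₀, hα]) (x ≫ y) (x ≫ t) s
  simp only [Category.assoc] at h1
  simp only [MonObj.comp_mul, GrpObj.comp_inv]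
  exact h1

include he hρ hs hφ₀ in
/-- **Conjugates of a self-centralizing split torus are classified by conjugates of its torsion points.** -/
theorem eQ_of_tors [Mono τ] (hself : SelfC τ) {N : ℕ} (hN : ∀ γ : Γ, γ ^ N = 1)
    (htors : ∀ (X : Over (Spec (CommRingCat.of R))) (x : X ⟶ Red.DS _ M), x ^ N = 1 → ∀ p : X.left,
      ∃ (X' : Over (Spec (CommRingCat.of R))) (j : X' ⟶ X),
        IsOpenImmersion j.left ∧ p ∈ Set.range j.left ∧ ∃ γ, j ≫ x = toUnit X' ≫ ψ γ)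
    (hfree : ∀ (K : Type u) [Field K] (f : Spec (.of K) ⟶ Spec (CommRingCat.of R)) (γ : Γ),
      toUnit (Over.mk f) ≫ φ₀ γ = 1 → γ = 1)
    {𝒯 : Over (Spec (CommRingCat.of R))} {q : Q ⟶ 𝒯} (hq : QIff q φ₀) : EQ τ q :=
  eQ_of_qIff (norm_of_perm ρ τ he hρ ψ hs hφ₀ hself)
    (perm_of_norm hφ₀ hN htors (inj_of_field hfree)) hq

end tors

end Groth.Agent.Sga3.H819.EqTrans
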