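import Groth.Agent.Sga3.H819.Unique
import Groth.Agent.Sga3B.MT.MemOps
import Groth.Agent.Sga3B.MT.Descend
import Groth.Agent.Sga3B.MT.TorusFam
import Groth.Agent.Sga3B.TorClosed636

/-!
# The maximal torus of a commutative affine group: étale descent

`exists_maximalTorus_of_etale`: if `G` is a commutative affine group scheme of finite presentation over `S` which has a
maximal torus étale locally on `S`, then `G` has a maximal torus.
-/

set_option autoImplicit false

universe u

open CategoryTheory MonoidalCategory CartesianMonoidalCategory MonObj GrpObj AlgebraicGeometry Limits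

namespace Groth.Agent.Sga3.H819.Descend

open Groth.Agent.Sga3B Groth.Agent.Sga3B.MT Groth.Agent.Sga3B.Parab Groth.Agent.Sga3.H798

variable {S : Scheme.{u}} {G : Over S} [GrpObj G]

/-- points of a base change of a commutative group commute -/
lemma mul_comm_bc [IsCommMonObj G] {S' : Scheme.{u}} (f : S' ⟶ S) {X : Over S'} (x y : X ⟶ Red.bc f G) :
    x * y = y * x := by
  have h := SubTorus.comm_bc f (𝟙 G) (𝟙 G) (fun X t h => mul_comm _ _) X x y
  have e : (Over.pullback f).map (𝟙 G) = 𝟙 _ := (Over.pullback f).map_id G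
  rw [e, Category.comp_id, Category.comp_id] at h
  exact h

/-- Two maximal tori of a commutative group are contained in each other. -/
lemma exists_factor_bc [IsCommMonObj G] [IsAffineHom G.hom] [LocallyOfFiniteType G.hom] {S' : Scheme.{u}}
    (f : S' ⟶ S) {T₁ T₂ : Over S'} [GrpObj T₁] [GrpObj T₂] (t₁ : T₁ ⟶ Red.bc f G) (t₂ : T₂ ⟶ Red.bc f G)
    (h₁ : Red.IsMaximalTorus t₁) (h₂ : Red.IsMaximalTorus t₂) : ∃ k : T₁ ⟶ T₂, k ≫ t₂ = t₁ := by
  have haf : IsAffineHom (Red.bc f G).hom := MorphismProperty.pullback_snd (P := @IsAffineHom) _ _ inferInstance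
  have hft : LocallyOfFiniteType (Red.bc f G).hom := by
    change LocallyOfFiniteType (Limits.pullback.snd _ _)
    infer_instance
  have := h₁.1
  exact Unique.exists_factor_of_comm t₂ h₂ t₁ h₁.2.2.1 fun X t r => mul_comm_bc f _ _

lemma exists_bcSub {S' S'' : Scheme.{u}} {f : S' ⟶ S} {T : Over S'} [GrpObj T] (t : T ⟶ Red.bc f G)
    (ht : Red.IsMaximalTorus t) (q : S'' ⟶ S') [ResAlg.AlgRes q] (h : S'' ⟶ S) (e : q ≫ f = h) :
    ∃ (T'' : Over S'') (_ : GrpObj T'') (t'' : T'' ⟶ Red.bc h G), Red.IsMaximalTorus t'' ∧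
      ∀ (X : Over S) (a : X ⟶ Over.mk h) (b : X ⟶ Over.mk f) (_ : b.left = a.left ≫ q) (g : X ⟶ G),
        MemAt t'' a g ↔ MemAt t b g := by
  subst e
  refine ⟨_, inferInstance, bcSub q t, isMaximalTorus_bcSub q t ht, fun X a b hb g => ?_⟩
  rw [memAt_bcSub]
  have : a ≫ ovq q f = b := by
    ext1
    exact hb.symm
  rw [this]

theorem compat [IsCommMonObj G] [IsAffineHom G.hom] [LocallyOfFiniteType G.hom]
    {J : Type u} {S' : J → Scheme.{u}} {f : ∀ j, S' j ⟶ S} (hf : ∀ j, Etale (f j)) {T : ∀ j, Over (S' j)}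
    [∀ j, GrpObj (T j)] (t : ∀ j, T j ⟶ Red.bc (f j) G) (ht : ∀ j, Red.IsMaximalTorus (t j)) : Compat t := by
  intro i j X a b g H
  have hi := hf i
  have hj := hf j
  have hab : a.left ≫ f i = b.left ≫ f j := (Over.w a).trans (Over.w b).symm
  obtain ⟨T₁, _, t₁, ht₁, hm₁⟩ := exists_bcSub (t i) (ht i) (pullback.fst (f i) (f j))
    (pullback.fst (f i) (f j) ≫ f i) rfl
  obtain ⟨T₂, _, t₂, ht₂, hm₂⟩ := exists_bcSub (t j) (ht j) (pullback.snd (f i) (f j))
    (pullback.fst (f i) (f j) ≫ f i) pullback.condition.symm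
  obtain ⟨k, hk⟩ := exists_factor_bc _ t₁ t₂ ht₁ ht₂
  let c : X ⟶ Over.mk (pullback.fst (f i) (f j) ≫ f i) := Over.homMk (pullback.lift a.left b.left hab) (by
    change pullback.lift a.left b.left hab ≫ pullback.fst (f i) (f j) ≫ f i = X.hom
    rw [pullback.lift_fst_assoc]
    exact Over.w a)
  rw [← hm₁ X c a (pullback.lift_fst _ _ _).symm] at H
  rw [← hm₂ X c b (pullback.lift_snd _ _ _).symm]
  obtain ⟨x, hx⟩ := (memAt_iff _ _ _).1 H
  exact (memAt_iff _ _ _).2 ⟨x ≫ k, by rw [Category.assoc, hk, hx]⟩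

/-- **Existence of the maximal torus of a commutative affine group, from étale local existence.** -/
theorem exists_maximalTorus_of_etale (G : Over S) [GrpObj G] [IsCommMonObj G] [IsAffineHom G.hom]
    [LocallyOfFiniteType G.hom]
    (h : ∀ s : S, ∃ (V : Scheme.{u}) (v : V ⟶ S), Etale v ∧ s ∈ Set.range v ∧
      ∃ (T : Over V) (_ : GrpObj T) (i : T ⟶ Red.bc v G), Red.IsMaximalTorus i) :
    ∃ (T : Over S) (_ : GrpObj T) (i : T ⟶ G), Red.IsMaximalTorus i := by
  choose V v hv hs T iT t ht using h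
  have hcl : ∀ s, IsClosedImmersion (t s).left := fun s => by
    have h1 := (ht s).1
    have h2 := (ht s).2.1
    have haf : IsAffineHom (Red.bc (v s) G).hom := MorphismProperty.pullback_snd (P := @IsAffineHom) _ _ inferInstance
    exact TorClosed636.isClosedImmersion_of_isTorus (t s) (ht s).2.2.1
  have hmon : ∀ s, IsMonHom (t s) := fun s => (ht s).1
  obtain ⟨P, hP, p, hp, hpc, hcomp⟩ := exists_closed_subgroup_of_family (f := v)
    ⟨fun j => inferInstance, fun j => inferInstance, fun s => ⟨s, hs s⟩⟩ t (compat hv t ht)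
  have hm : Mono p := Sga3C.ClosedSub.mono_of_left p
  refine ⟨P, hP, p, isMaximalTorus_of_family v hv (fun s => ⟨s, hs s⟩) p hp hm fun j => ?_⟩
  obtain ⟨e, he⟩ := hcomp j
  refine AlgBc.isMaximalTorus_of_arrow e (Iso.refl _) ?_ (ht j)
  rw [he]
  exact Category.comp_id _

/-- **The maximal torus of a commutative affine group contains all subtori.** -/
theorem exists_factor (G : Over S) [GrpObj G] [IsCommMonObj G] [IsAffineHom G.hom]
    [LocallyOfFiniteType G.hom] {T : Over S} [GrpObj T] (i : T ⟶ G) (hi : Red.IsMaximalTorus i)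
    (R : Over S) [GrpObj R] (j : R ⟶ G) [IsMonHom j] (hR : Red.IsTorus R) : ∃ f : R ⟶ T, f ≫ i = j :=
  Unique.exists_factor_of_comm i hi j hR fun _ _ _ => mul_comm _ _

end Groth.Agent.Sga3.H819.Descend
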