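import Groth.Agent.Sga3.H816.RedRank
import Groth.Agent.Sga3.H795.MaxTorDim
import Groth.Agent.Sga3B.TorusBc
import Groth.Agent.Sga3B.AlgBc2
import Groth.Agent.S0412

/-!
# Étale local existence of maximal tori when the reductive rank is locally constant

* `hasRedRank_bc`: the reductive rank of the geometric fibres is unchanged by étale base change;
* `isMaximalTorus_of_dim`: a subtorus whose geometric fibres have the dimension of a maximal torus is maximal;
* `exists_etale_maximalTorus`: if `G` is smooth and affine with locally constant reductive rank, it has a maximal torus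
  étale locally on the base.
-/

set_option autoImplicit false

open CategoryTheory MonoidalCategory CartesianMonoidalCategory AlgebraicGeometry Limits Opposite
open TensorProduct WithConv
open scoped MonObj
open Groth.Agent.Sga3B Groth.Agent.Sga3B.HaarDef Groth.Agent.Sga3B.AffTest Groth.Agent.Sga3B.PtData
open Groth.Agent.Sga3B.TorusLie Groth.Agent.Sga3B.TorusNbhd
open Groth.Agent.Sga3B.TorusWt Groth.Agent.Sga3B.PtMor Groth.Agent.Sga3B.PtProp Groth.Agent.Sga3B.TorusRk
open Groth.Agent.Sga3B.MaxTorusCrit Groth.Agent.Sga3B.FibreTorus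

namespace Groth.Agent.Sga3.H819.LocalTorus

open Groth.Agent.Sga3.H816 Groth.Agent.Sga3.H795

universe u

/-- The reductive rank of the geometric fibres is unchanged by étale base change. -/
theorem hasRedRank_bc {S V : Scheme.{u}} (v : V ⟶ S) [ResAlg.AlgRes v] (G : Over S) [GrpObj G] (s : V)
    {r : WithBot ℕ∞} (h : SGA3x.HasRedRank G (v s) r) : SGA3x.HasRedRank (Red.bc v G) s r := by
  obtain ⟨T, _, i, hi, hd⟩ := h
  obtain ⟨θ, hθ, hh⟩ := ResAlg.exists_iso_geomPt v s
  refine ⟨Red.bc θ T, inferInstance, (Over.pullback θ).map i ≫ (RedIso.und (BcNat.fibIso hh G)).inv, ?_, ?_⟩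
  · refine AlgBc.isMaximalTorus_of_arrow (Iso.refl _) (BcNat.fibIso hh G).symm ?_ (AlgBc.isMaximalTorus_bc θ hi)
    exact (Category.id_comp _).symm
  · rw [← hd]
    have h1 : IsIso (pullback.fst T.hom θ) := inferInstance
    exact IsHomeomorph.topologicalKrullDim_eq _ (Scheme.homeoOfIso (asIso (pullback.fst T.hom θ))).isHomeomorph

/-- A subtorus whose geometric fibres have the dimension of a maximal torus is a maximal torus. -/
theorem isMaximalTorus_of_dim {S : Scheme.{u}} {G T : Over S} [GrpObj G] [GrpObj T] [IsAffineHom G.hom]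
    [LocallyOfFiniteType G.hom] (i : T ⟶ G) [IsMonHom i] [Mono i] (hT : Red.IsTorus T)
    (h : ∀ s : S, ∃ r : WithBot ℕ∞, SGA3x.HasRedRank G s r ∧
      r ≤ topologicalKrullDim ↥(Red.geomFibre s T).left) : Red.IsMaximalTorus i := by
  refine ⟨inferInstance, inferInstance, hT, fun s => ?_⟩
  obtain ⟨r, ⟨T₀, _, i₀, hi₀, hd₀⟩, hr⟩ := h s
  have haf : IsAffineHom (Red.geomFibre s G).hom := by
    change IsAffineHom (Limits.pullback.snd _ _)
    infer_instance
  have : IsAffine (Red.geomFibre s G).left := isAffine_left_of_isAffineHom _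
  have : LocallyOfFiniteType (Red.geomFibre s G).hom := by
    change LocallyOfFiniteType (Limits.pullback.snd _ _)
    infer_instance
  have h1 := MaxTorDim.isMaximalTorus_of_dim_le (Red.geomFibre s G) i₀ hi₀
    ((Over.pullback (Red.geomPt s)).map i) (TorusBc.isTorus_bc _ hT) (by rw [hd₀]; exact hr)
  exact (AlgBc.isMaximalTorus_iff.1 h1).2.2.2

/-- The local form: `S` replaced by an affine open neighbourhood of `s₀`. -/
theorem aux {S : Scheme.{u}} (G : Over S) [GrpObj G] [IsAffineHom G.hom] [Smooth G.hom] {R : Type u} [CommRing R]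
    (j : Spec (CommRingCat.of R) ⟶ S) [IsOpenImmersion j] (s₀ : S) (hs₀ : s₀ ∈ Set.range j)
    (r : WithBot ℕ∞) (hr : ∀ t ∈ Set.range j, SGA3x.HasRedRank G t r) :
    ∃ (B : Type u) (_ : CommRing B) (v : Spec (CommRingCat.of B) ⟶ S), Etale v ∧ s₀ ∈ Set.range v.base ∧
      ∃ (T : Over (Spec (CommRingCat.of B))) (_ : GrpObj T) (i : T ⟶ Red.bc v G),
        Red.IsMaximalTorus i := by
  -- the Hopf algebra
  have hGj : IsAffineHom (Red.bc j G).hom := by
    show IsAffineHom (Limits.pullback.snd _ _)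
    infer_instance
  have hGj' : Smooth (Red.bc j G).hom := by
    show Smooth (Limits.pullback.snd _ _)
    infer_instance
  have : IsAffine (Red.bc j G).left := isAffine_left_of_isAffineHom _
  obtain ⟨C, _, _, iC, hiC⟩ := AffHopf.exists_hopf (Red.bc j G)
  have hsm : Algebra.Smooth R C := AffHopf.smooth_of_iso iC
  have hft : Algebra.FiniteType R C := Algebra.FiniteType.of_finitePresentation
  -- the torus in the fibre
  obtain ⟨φ, hφ⟩ := RedRank.exists_ringHom j s₀ hs₀
  let : Algebra R (AlgebraicClosure (S.residueField s₀)) := φ.toAlgebra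
  have hgeom : Red.geomPt s₀ = q R (AlgebraicClosure (S.residueField s₀)) ≫ j := hφ
  obtain ⟨PK⟩ := AffHopf.exists_ptStr G j iC (AlgebraicClosure (S.residueField s₀)) (Red.geomPt s₀) hφ
  have hGK : IsAffineHom (Red.geomFibre s₀ G).hom := by
    show IsAffineHom (Limits.pullback.snd _ _)
    infer_instance
  have : IsAffine (Red.geomFibre s₀ G).left := isAffine_left_of_isAffineHom _
  obtain ⟨T₀, _, i₀, hi₀, hd₀⟩ := hr s₀ hs₀
  have hi₀1 := hi₀.1
  have hi₀2 := hi₀.2.1
  obtain ⟨n, F₀, hF₀, hm₀, hn⟩ := RedRank.exists_rank PK i₀ hi₀.2.2.1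
  have hrn : r = n := hd₀.symm.trans hn
  -- a smooth neighbourhood
  obtain ⟨E, _, _, _, ρ, l, hρ1, hρ2, hgen⟩ := ComodGen.exists_comodule (R := R) (C := C)
  obtain ⟨Q₀, _, _, U₀, g₀, hQ₀, hU₀, hg₀⟩ := TorusSmooth.exists_smooth_nbhd (ρ := ρ) ⟨hρ1, hρ2⟩ l hgen hF₀
  obtain ⟨b, hb, hb'⟩ := exists_unitGen_away U₀ g₀ (by rw [hg₀]; exact hm₀)
  have hQ : Algebra.Smooth R (Localization.Away b) := by
    have : Algebra.Smooth Q₀ (Localization.Away b) := Algebra.Smooth.of_isLocalization_Away b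
    exact Algebra.Smooth.comp R Q₀ _
  let f : Q₀ →ₐ[R] Localization.Away b := IsScalarTower.toAlgHom R Q₀ (Localization.Away b)
  have hgu : ∀ y : Submonoid.powers b, IsUnit (g₀ y) := by
    rintro ⟨_, k, rfl⟩
    show IsUnit (g₀ (b ^ k))
    rw [map_pow]
    exact (isUnit_iff_ne_zero.2 hb).pow k
  obtain ⟨Q, _, _, U, g, hQ, hU, hUg⟩ : ∃ (Q : Type u) (_ : CommRing Q) (_ : Algebra R Q)
      (U : WithConv (C →ₐ[R] MonoidAlgebra R (Multiplicative (Fin n → ℤ)) ⊗[R] Q))
      (_ : Q →ₐ[R] AlgebraicClosure (S.residueField s₀)), Algebra.Smooth R Q ∧ IsHom U ∧ UnitGen U :=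
    ⟨Localization.Away b, inferInstance, inferInstance,
      pushG (HaarDef.T (MonoidAlgebra R (Multiplicative (Fin n → ℤ))) f) U₀,
      IsLocalization.liftAlgHom (M := Submonoid.powers b) (f := g₀) hgu, hQ, hU₀.map f,
      hb' _ f (IsLocalization.Away.algebraMap_isUnit b)⟩
  -- étale section
  have hQsm : Smooth (q R Q) := by
    rw [HasRingHomProperty.Spec_iff (P := @Smooth)]
    exact RingHom.smooth_algebraMap.2 hQ
  have hfs : Smooth (q R Q ≫ j) := inferInstance
  have hs : s₀ ∈ Set.range (q R Q ≫ j) := by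
    let k : Spec (CommRingCat.of (AlgebraicClosure (S.residueField s₀))) ⟶ Spec (CommRingCat.of Q) :=
      Spec.map (CommRingCat.ofHom g.toRingHom)
    have hk : k ≫ q R Q = q R (AlgebraicClosure (S.residueField s₀)) := by
      show Spec.map _ ≫ Spec.map _ = Spec.map _
      rw [← Spec.map_comp, ← CommRingCat.ofHom_comp]
      congr 2
      exact g.comp_algebraMap
    obtain ⟨x⟩ : Nonempty (Spec (CommRingCat.of (AlgebraicClosure (S.residueField s₀)))) := inferInstance
    refine ⟨k x, ?_⟩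
    rw [← Scheme.Hom.comp_apply, ← Category.assoc, hk, ← hgeom]
    show (Spec.map _ ≫ S.fromSpecResidueField s₀) x = s₀
    rw [Scheme.Hom.comp_apply]
    exact Scheme.fromSpecResidueField_apply _ _
  obtain ⟨S', g', s', hg'e, hg's, h, hh⟩ := S0412.result (q R Q ≫ j) s₀ hs
  -- affine neighbourhood of `s'`
  obtain ⟨V, hV, hs'V, -⟩ := exists_isAffineOpen_mem_and_subset (x := s') (U := ⊤) trivial
  let B : Type u := Γ(S', V)
  let w : Spec (CommRingCat.of B) ⟶ S' := hV.fromSpec
  have hw : IsOpenImmersion w := inferInstanceAs (IsOpenImmersion hV.fromSpec)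
  have hs'w : s' ∈ Set.range w := by
    have : Set.range hV.fromSpec = (V : Set S') := hV.range_fromSpec
    exact this ▸ hs'V
  let ψ : Q →+* B := (Spec.preimage (w ≫ h)).hom
  have hψ : Spec.map (CommRingCat.ofHom ψ) = w ≫ h := Spec.map_preimage _
  let : Algebra Q B := ψ.toAlgebra
  let : Algebra R B := (ψ.comp (algebraMap R Q)).toAlgebra
  have : IsScalarTower R Q B := IsScalarTower.of_algebraMap_eq fun _ => rfl
  have hv : w ≫ g' = q R B ≫ j := by
    rw [← hh, ← Category.assoc, ← hψ, ← Category.assoc]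
    congr 1
    show Spec.map _ ≫ Spec.map _ = Spec.map _
    rw [← Spec.map_comp, ← CommRingCat.ofHom_comp]
  obtain ⟨PB⟩ := AffHopf.exists_ptStr G j iC B (w ≫ g') hv
  have hGB : IsAffineHom (Red.bc (w ≫ g') G).hom := by
    show IsAffineHom (Limits.pullback.snd _ _)
    infer_instance
  have hGBs : Smooth (Red.bc (w ≫ g') G).hom := by
    show Smooth (Limits.pullback.snd _ _)
    infer_instance
  have : IsAffine (Red.bc (w ≫ g') G).left := isAffine_left_of_isAffineHom _
  have : IsAffine (Red.DS (Spec (CommRingCat.of B)) (Fin n → ℤ)).left := isAffine_left_of_isAffineHom _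
  let F := pushG (HaarDef.T (MonoidAlgebra R (Multiplicative (Fin n → ℤ))) (IsScalarTower.toAlgHom R Q B)) U
  have hF : IsHom F := hU.map _
  have hFg : UnitGen F := hUg.map _
  obtain ⟨i, hi⟩ := exists_mor (dsStr R B (Fin n → ℤ)) PB F
  have hi1 : IsMonHom i := isMonHom_of_isHom hi hF
  have hi2 : Mono i := mono_of_amono hi (hFg.amono hF)
  refine ⟨B, inferInstance, w ≫ g', inferInstance, ?_, Red.DS (Spec (CommRingCat.of B)) (Fin n → ℤ), inferInstance, i,
    isMaximalTorus_of_dim i (isTorus_DS _ n) fun s => ⟨r, ?_, ?_⟩⟩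
  · obtain ⟨y, hy⟩ := hs'w
    refine ⟨y, ?_⟩
    show (w ≫ g') y = s₀
    rw [Scheme.Hom.comp_apply, hy, hg's]
  · refine hasRedRank_bc (w ≫ g') G s (hr _ ⟨q R B s, ?_⟩)
    rw [hv, Scheme.Hom.comp_apply]
  · rw [hrn]
    exact (TorusDim.topologicalKrullDim_of_split
      (TorusAlgClosed.isSplitTorusWith_bc (Red.geomPt s) ⟨Iso.refl _⟩)).ge

/-- **Étale local existence of maximal tori.** -/
theorem exists_etale_maximalTorus {S : Scheme.{u}} (G : Over S) [GrpObj G] [IsAffineHom G.hom] [Smooth G.hom]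
    (hr : SGA3x.RedRankLocallyConstant G) (s₀ : S) :
    ∃ (V : Scheme.{u}) (v : V ⟶ S), Etale v ∧ s₀ ∈ Set.range v ∧
      ∃ (T : Over V) (_ : GrpObj T) (i : T ⟶ Red.bc v G), Red.IsMaximalTorus i := by
  obtain ⟨U, hU, r, hUr⟩ := hr s₀
  obtain ⟨V, hV, hs₀V, hVU⟩ := exists_isAffineOpen_mem_and_subset (x := s₀) (U := U) hU
  have hrg : Set.range hV.fromSpec = (V : Set S) := hV.range_fromSpec
  obtain ⟨B, _, v, hv, hs, T, _, i, hi⟩ := aux (R := Γ(S, V)) G
    (hV.fromSpec : Spec (CommRingCat.of Γ(S, V)) ⟶ S) s₀ (hrg ▸ hs₀V) r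
    (fun t ht => hUr t (hVU (show t ∈ (V : Set S) from hrg ▸ ht)))
  exact ⟨_, v, hv, hs, T, inferInstance, i, hi⟩

end Groth.Agent.Sga3.H819.LocalTorus
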