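import Groth.Agent.Sga3C.AdRepN
import Groth.Agent.Sga3C.KerStab
import Groth.Agent.Sga3C.KrullPt
import Groth.Agent.Sga3C.CentDom
import Groth.Agent.Fdesc.GrpDimHom

/-!
# A linear representation with kernel the centre, over a noetherian base

`G` a separated flat group scheme of finite type over a noetherian ring `R` with geometrically irreducible fibres,
`Spec B ⟶ G` an affine open neighbourhood of the unit section such that all `B / I ^ n` are finite free.

* `exists_nhd`: two morphisms to `G` agree near a point lying over the unit section as soon as they agree on all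
  infinitesimal neighbourhoods;
* `exists_rep_center`: a homomorphism `G ⟶ GLS m (Spec R)` whose kernel is the functor of central points.
-/

set_option autoImplicit false

universe u

open CategoryTheory MonoidalCategory CartesianMonoidalCategory AlgebraicGeometry MonObj GrpObj

namespace Groth.Agent.Sga3.H819.CentRep

open Sga3B.GLn Sga3B.FreeBC Sga3B.LinRep Sga3B.AdRep Sga3C Sga3C.AdRepN Sga3C.KrullPt

open Limits in
/-- A point of a separated group scheme with values in a reduced scheme and supported at the unit is trivial. -/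
theorem eq_one_of_range {S : Scheme.{u}} {G : Over S} [GrpObj G] [IsSeparated G.hom]
    {X : Over S} [IsReduced X.left] (x : X ⟶ G)
    (hx : ∀ p, x.left p ∈ Set.range (η[G] : 𝟙_ (Over S) ⟶ G).left) : x = 1 := by
  set e := (η[G] : 𝟙_ (Over S) ⟶ G).left with he
  have h0 : e ≫ G.hom = 𝟙 S := Over.w η[G]
  have : IsClosedImmersion e := by
    have h2 : IsClosedImmersion (e ≫ G.hom) := by
      rw [h0]; exact (inferInstance : IsClosedImmersion (𝟙 (S : Scheme.{u})))
    exact IsClosedImmersion.of_comp _ G.hom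
  have hs : Surjective (pullback.fst x.left e) := by
    refine ⟨fun p => ?_⟩
    have h1 := Scheme.Pullback.range_fst (f := x.left) (g := e)
    have h2 : p ∈ Set.range (pullback.fst x.left e) := by
      rw [h1]; exact hx p
    exact h2
  have : IsIso (pullback.fst x.left e) := isIso_of_isClosedImmersion_of_surjective _
  have h1 : x.left = (inv (pullback.fst x.left e) ≫ pullback.snd x.left e) ≫ e := by
    rw [Category.assoc, ← pullback.condition, IsIso.inv_hom_id_assoc]
  have h2 : inv (pullback.fst x.left e) ≫ pullback.snd x.left e = X.hom := by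
    have h4 : x.left ≫ G.hom =
        (inv (pullback.fst x.left e) ≫ pullback.snd x.left e) ≫ e ≫ G.hom := by
      rw [← Category.assoc]
      exact congrArg (· ≫ G.hom) h1
    rw [← Over.w x, h4, h0]
    exact (Category.comp_id _).symm
  ext1
  rw [h1, h2]
  rfl

/-- Morphisms agreeing on the members of a family of open subschemes agree on the union. -/
theorem iSup_ι_comp_eq {X Y : Scheme.{u}} {J : Sort*} (U : J → X.Opens) (f g : X ⟶ Y)
    (h : ∀ j, (U j).ι ≫ f = (U j).ι ≫ g) : (⨆ j, U j).ι ≫ f = (⨆ j, U j).ι ≫ g := by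
  have h' : ∀ j : PLift J, (U j.down).ι ≫ f = (U j.down).ι ≫ g := fun j => h j.down
  have e : (⨆ j, U j) = ⨆ j : PLift J, U j.down := (iSup_plift_down (f := U)).symm
  rw [e]
  refine (Scheme.Opens.iSupOpenCover (fun j : PLift J => U j.down)).hom_ext _ _ fun j => ?_
  simpa [Scheme.Opens.iSupOpenCover] using h' j

section

variable {R : Type u} [CommRing R] {B : Type u} [CommRing B] [Algebra R B]
  {G : Over (Spec (CommRingCat.of R))} [GrpObj G]

/-- Two morphisms to a group scheme agree near a point lying over the unit as soon as they agree on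
all points where the second factors through an infinitesimal neighbourhood of the unit. -/
theorem exists_nhd [IsSeparated G.hom] (w : DE R B ⟶ G) [IsOpenImmersion w.left]
    (eW : 𝟙_ (Over (Spec (CommRingCat.of R))) ⟶ DE R B) (heW : eW ≫ w = η[G])
    {P : Over (Spec (CommRingCat.of R))} [IsLocallyNoetherian P.left] (f₁ f₂ : P ⟶ G) (y : P.left)
    (hy : f₂.left y ∈ Set.range (η[G] : 𝟙_ (Over (Spec (CommRingCat.of R))) ⟶ G).left)
    (hagree : ∀ (n : ℕ) (X : Over (Spec (CommRingCat.of R))) (t : X ⟶ P)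
      (d : X ⟶ DE R (B ⧸ (augIdeal eW) ^ (n + 1))), d ≫ quotMap _ ≫ w = t ≫ f₂ → t ≫ f₁ = t ≫ f₂) :
    ∃ U : P.left.Opens, y ∈ U ∧ U.ι ≫ f₁.left = U.ι ≫ f₂.left := by
  refine spread_out_unique_of_isGermInjective' f₁.left f₂.left (ext_of_isLocalRing _ _ fun n => ?_)
  set R' := P.left.presheaf.stalk y with hR
  let m := IsLocalRing.maximalIdeal R'
  let q : R' ⟶ CommRingCat.of (R' ⧸ m ^ (n + 1)) := CommRingCat.ofHom (Ideal.Quotient.mk (m ^ (n + 1)))
  let T : Over (Spec (CommRingCat.of R)) := Over.mk (Spec.map q ≫ P.left.fromSpecStalk y ≫ P.hom)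
  let t : T ⟶ P := Over.homMk (Spec.map q ≫ P.left.fromSpecStalk y) (by simp [T])
  let ρ : CommRingCat.of (R' ⧸ m ^ (n + 1)) ⟶ CommRingCat.of (R' ⧸ m) :=
    CommRingCat.ofHom (Ideal.Quotient.factor (Ideal.pow_le_self n.succ_ne_zero))
  let T₀ : Over (Spec (CommRingCat.of R)) := Over.mk (Spec.map ρ ≫ T.hom)
  let i : T₀ ⟶ T := Over.homMk (Spec.map ρ)
  have hfac : q ≫ ρ = CommRingCat.ofHom (Ideal.Quotient.mk m) := by
    ext x
    rfl
  have hkerρ : RingHom.ker ρ.hom ^ (n + 1) = ⊥ := by
    have h1 : RingHom.ker ρ.hom ≤ m.map (Ideal.Quotient.mk (m ^ (n + 1))) := by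
      intro x hx
      obtain ⟨x, rfl⟩ := Ideal.Quotient.mk_surjective x
      refine Ideal.mem_map_of_mem _ ?_
      have h2 : Ideal.Quotient.mk m x = 0 := hx
      exact Ideal.Quotient.eq_zero_iff_mem.mp h2
    refine le_bot_iff.mp ((Ideal.pow_right_mono h1 (n + 1)).trans ?_)
    rw [← Ideal.map_pow, Ideal.map_quotient_self]
  have hker : RingHom.ker i.left.appTop.hom ^ (n + 1) = ⊥ := ker_appTop_pow_eq_bot ρ (n + 1) hkerρ
  have hmax : m.IsMaximal := IsLocalRing.maximalIdeal.isMaximal R'
  have hpt : ∀ p : T.left, (Spec.map q) p = IsLocalRing.closedPoint R' := by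
    intro p
    apply PrimeSpectrum.ext
    have h1 : m ≤ Ideal.comap (Ideal.Quotient.mk (m ^ (n + 1)))
        (PrimeSpectrum.asIdeal (R := R' ⧸ m ^ (n + 1)) p) := by
      intro x hx
      refine Ideal.IsPrime.mem_of_pow_mem (PrimeSpectrum.isPrime (R := R' ⧸ m ^ (n + 1)) p) (n + 1) ?_
      rw [← map_pow, Ideal.Quotient.eq_zero_iff_mem.mpr (Ideal.pow_mem_pow hx _)]
      exact Ideal.zero_mem _
    exact (Ideal.IsMaximal.eq_of_le hmax
      (Ideal.IsPrime.comap _ (hK := PrimeSpectrum.isPrime (R := R' ⧸ m ^ (n + 1)) p)).ne_top h1).symm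
  have hsub : Subsingleton T.left := by
    have hinj : Function.Injective (Spec.map q) := by
      have : IsClosedImmersion (Spec.map q) :=
        IsClosedImmersion.spec_of_surjective _ Ideal.Quotient.mk_surjective
      exact (Spec.map q).isClosedEmbedding.injective
    exact ⟨fun a b => hinj (by rw [hpt, hpt])⟩
  have hsurj : Surjective i.left := by
    refine ⟨fun p => ?_⟩
    have : Nonempty (PrimeSpectrum (R' ⧸ m)) := inferInstance
    obtain ⟨z⟩ := this
    exact ⟨(show T₀.left from z), Subsingleton.elim _ _⟩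
  have hred : IsReduced T₀.left := by
    let _ : Field (R' ⧸ m) := Ideal.Quotient.field m
    exact inferInstanceAs (IsReduced (Spec (CommRingCat.of (R' ⧸ m))))
  have hone : i ≫ t ≫ f₂ = 1 := by
    refine eq_one_of_range _ fun p => ?_
    have h1 : (i ≫ t ≫ f₂).left p = f₂.left (P.left.fromSpecStalk y (Spec.map q (i.left p))) := by
      simp [t]
    rw [h1, hpt, Scheme.fromSpecStalk_closedPoint]
    exact hy
  obtain ⟨d, hd⟩ := factor_pow w eW heW (n + 1) i hker (t ≫ f₂) hone
  have h7 := hagree n T t d hd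
  have h8 := congr(($h7).left)
  simp only [Over.comp_left, t, Over.homMk_left, Category.assoc] at h8
  exact h8

/-- Points commuting with all infinitesimal neighbourhoods of the unit are central (noetherian base,
geometrically irreducible fibres). -/
theorem central_of_forall [IsNoetherianRing R] [LocallyOfFiniteType G.hom] [IsSeparated G.hom] [Flat G.hom]
    [UniversallyOpen G.hom] [GeometricallyIrreducible G.hom] (w : DE R B ⟶ G) [IsOpenImmersion w.left]
    (eW : 𝟙_ (Over (Spec (CommRingCat.of R))) ⟶ DE R B) (heW : eW ≫ w = η[G])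
    (N : Over (Spec (CommRingCat.of R))) [LocallyOfFiniteType N.hom] (i : N ⟶ G)
    (hi : ∀ (n : ℕ) (X : Over (Spec (CommRingCat.of R))) (p : X ⟶ N)
      (d : X ⟶ DE R (B ⧸ (augIdeal eW) ^ (n + 1))),
      (p ≫ i) * (d ≫ quotMap _ ≫ w) * (p ≫ i)⁻¹ = d ≫ quotMap _ ≫ w)
    (T : Over (Spec (CommRingCat.of R))) (t : T ⟶ N) (h : T ⟶ G) :
    (t ≫ i) * h = h * (t ≫ i) := by
  have hc : (fst N G ≫ i) * snd N G * (fst N G ≫ i)⁻¹ = snd N G := by
    have hlft' : LocallyOfFiniteType (N ⊗ G).hom := by
      have h1 : (N ⊗ G).hom = (snd N G).left ≫ G.hom := (Over.w _).symm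
      rw [h1]
      have h2 : LocallyOfFiniteType (snd N G).left := by
        rw [Over.snd_left]; infer_instance
      infer_instance
    have hlnP : IsLocallyNoetherian (N ⊗ G).left :=
      LocallyOfFiniteType.isLocallyNoetherian (N ⊗ G).hom
    set f₁ : N ⊗ G ⟶ G := (fst N G ≫ i) * snd N G * (fst N G ≫ i)⁻¹ with hf₁
    have key : ∀ y : (N ⊗ G).left,
        (snd N G).left y ∈ Set.range (η[G] : 𝟙_ (Over (Spec (CommRingCat.of R))) ⟶ G).left →
        ∃ U : (N ⊗ G).left.Opens, y ∈ U ∧ U.ι ≫ f₁.left = U.ι ≫ (snd N G).left := by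
      intro y hy
      refine exists_nhd w eW heW f₁ (snd N G) y hy ?_
      intro n X t d hd
      have h1 := hi n X (t ≫ fst N G) d
      rw [hd] at h1
      rw [hf₁, MonObj.comp_mul, MonObj.comp_mul, GrpObj.comp_inv, ← Category.assoc]
      exact h1
    choose U hyU hU using key
    let W : (N ⊗ G).left.Opens := ⨆ (y : (N ⊗ G).left)
      (hy : (snd N G).left y ∈ Set.range (η[G] : 𝟙_ (Over (Spec (CommRingCat.of R))) ⟶ G).left), U y hy
    refine CentDom.conj_eq N i W ?_ ?_
    · intro v hv
      exact TopologicalSpace.Opens.mem_iSup.mpr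
        ⟨v, TopologicalSpace.Opens.mem_iSup.mpr ⟨hv, hyU v hv⟩⟩
    · refine iSup_ι_comp_eq _ _ _ fun y => iSup_ι_comp_eq _ _ _ fun hy => hU y hy
  have h1 := congr(lift t h ≫ $hc)
  rw [MonObj.comp_mul, MonObj.comp_mul, GrpObj.comp_inv, lift_snd, ← Category.assoc, lift_fst] at h1
  exact mul_inv_eq_iff_eq_mul.mp h1

/-- **A homomorphism to the general linear group with kernel the centre.** -/
theorem exists_rep_center [IsNoetherianRing R] [LocallyOfFiniteType G.hom] [QuasiCompact G.hom]
    [IsSeparated G.hom] [Flat G.hom] [UniversallyOpen G.hom] [GeometricallyIrreducible G.hom]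
    (w : DE R B ⟶ G) [IsOpenImmersion w.left]
    (eW : 𝟙_ (Over (Spec (CommRingCat.of R))) ⟶ DE R B) (heW : eW ≫ w = η[G])
    (hfree : ∀ n : ℕ, Module.Free R (B ⧸ (augIdeal eW) ^ (n + 1)))
    (hfin : ∀ n : ℕ, Module.Finite R (B ⧸ (augIdeal eW) ^ (n + 1))) :
    ∃ (m : Type u) (_ : Fintype m) (_ : DecidableEq m) (f : G ⟶ GLS m (Spec (CommRingCat.of R))),
      IsMonHom f ∧ ∀ (T : Over (Spec (CommRingCat.of R))) (g : T ⟶ G), g ≫ f = 1 ↔
        ∀ (T' : Over (Spec (CommRingCat.of R))) (t : T' ⟶ T) (h : T' ⟶ G), (t ≫ g) * h = h * (t ≫ g) := by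
  classical
  have hcp : CompactSpace G.left := (quasiCompact_iff_compactSpace _).mp ‹QuasiCompact G.hom›
  have hs : G.left.IsSeparated := ⟨by
    rw [← Limits.terminal.comp_from G.hom]
    infer_instance⟩
  have : QuasiSeparatedSpace G.left := inferInstance
  have : IsLocallyNoetherian G.left := LocallyOfFiniteType.isLocallyNoetherian G.hom
  have : IsNoetherian G.left := {}
  have hreps : ∀ n : ℕ, ∃ (m : Type u) (_ : Fintype m) (_ : DecidableEq m)
      (f : G ⟶ GLS m (Spec (CommRingCat.of R))), IsMonHom f ∧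
      ∀ {T : Over (Spec (CommRingCat.of R))} (g : T ⟶ G),
        g ≫ f = 1 ↔ ∀ (X : Over (Spec (CommRingCat.of R))) (p : X ⟶ T)
          (d : X ⟶ DE R (B ⧸ (augIdeal eW) ^ (n + 1))),
          (p ≫ g) * (d ≫ quotMap _ ≫ w) * (p ≫ g)⁻¹ = d ≫ quotMap _ ≫ w := by
    intro n
    have := hfree n
    have := hfin n
    exact ⟨_, inferInstance, inferInstance, exists_adRep_pow w eW heW n
      (Module.Free.chooseBasis R (B ⧸ (augIdeal eW) ^ (n + 1)))⟩
  choose m hm hmd f hf hker using hreps
  -- stabilisation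
  obtain ⟨n₀, hn₀⟩ := KerStab.exists_forall_comp_eq_one G
    (fun n => GLS (m n) (Spec (CommRingCat.of R))) (fun n => inferInstance) f (by
      intro n T g hg
      rw [hker] at hg ⊢
      intro X p d
      obtain ⟨d', hd'⟩ := factor_quot (J := (augIdeal eW) ^ (n + 1 + 1)) (d ≫ quotMap _) (by
        intro x hx
        rw [fn_quotMap, Ideal.Quotient.eq_zero_iff_mem.mpr (Ideal.pow_le_pow_right (n + 1).le_succ hx),
          map_zero])
      have h1 := hg X p d'
      rw [← Category.assoc, hd', Category.assoc] at h1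
      exact h1)
  refine ⟨m n₀, inferInstance, inferInstance, f n₀, hf n₀, fun T g => ⟨fun hg => ?_, fun hg => ?_⟩⟩
  · -- the points of the kernel commute with everything; reduce to the universal point of the kernel
    obtain ⟨N, i, hNi, z, hz⟩ : ∃ (N : Over (Spec (CommRingCat.of R))) (i : N ⟶ G),
        (i ≫ f n₀ = 1 ∧ LocallyOfFiniteType N.hom) ∧ ∃ z : T ⟶ N, z ≫ i = g := by
      refine ⟨Fdesc.GrpDimHom.ker (f n₀), Fdesc.GrpDimHom.kerι (f n₀),
        ⟨Fdesc.GrpDimHom.kerι_comp _, ?_⟩, Fdesc.GrpDimHom.exists_lift (f n₀) g hg⟩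
      change LocallyOfFiniteType (Limits.pullback.fst (f n₀).left (η : 𝟙_ (Over _) ⟶ _).left ≫ G.hom)
      rw [Fdesc.GrpDimHom.fst_hom]
      have : LocallyOfFiniteType ((f n₀).left ≫ (GLS (m n₀) (Spec (CommRingCat.of R))).hom) := by
        rw [Over.w]; infer_instance
      have : LocallyOfFiniteType (f n₀).left :=
        locallyOfFiniteType_of_comp (f n₀).left (GLS (m n₀) (Spec (CommRingCat.of R))).hom
      infer_instance
    have hi1 : ∀ n, i ≫ f n = 1 := hn₀ N i hNi.1
    have hlft : LocallyOfFiniteType N.hom := hNi.2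
    intro T' t h
    have h1 := central_of_forall w eW heW N i (fun n => (hker n i).mp (hi1 n)) T' (t ≫ z) h
    rw [Category.assoc, hz] at h1
    exact h1
  · rw [hker]
    intro X p d
    rw [mul_inv_eq_iff_eq_mul]
    exact hg X p _

end

end Groth.Agent.Sga3.H819.CentRep
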