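import Groth.Agent.Sga3.H819.HomAff
import Groth.Agent.Sga3.H824.ImmVal
import Groth.Agent.Sga3.H832.ValExt
import Groth.Agent.RedSub.H647.FreeQ
import Groth.Agent.Sga3B.GLn

/-!
# The quotient of a group by the normaliser of a finite group with closed orbit

`Q` a smooth group scheme, `Γ` a finite group of order invertible on `S`, `φ₀ : Γ → Q(S)` faithful on geometric
fibres, `ρ : Q ⟶ W` a monomorphism to an affine group scheme.  If the union of the orbits of the `φ₀ ∘ α`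
(`α ∈ Aut Γ`) in `Hom(Γ, W)` satisfies the valuative criterion, the quotient of `Q` by the normaliser of `φ₀`
(in the sense `g ~ h` iff locally `g φ₀ g⁻¹ = h (φ₀ ∘ α) h⁻¹`) exists and is affine and smooth.
-/

set_option autoImplicit false
universe u
open CategoryTheory MonoidalCategory CartesianMonoidalCategory MonObj GrpObj AlgebraicGeometry Limits

namespace Groth.Agent.Sga3.H819.ClosedOrbit

open Groth.Agent.Sga3.H797 Groth.Agent.Sga3.H797.HomFin Groth.Agent.Sga3B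

/-- Geometric points in the image of a morphism locally of finite type lift. -/
theorem exists_lift_of_mem_range {X Y : Scheme.{u}} (f : X ⟶ Y) [LocallyOfFiniteType f] {K : Type u} [Field K]
    [IsAlgClosed K] (y : Spec (CommRingCat.of K) ⟶ Y) (x₀ : Spec (CommRingCat.of K)) (hy : y x₀ ∈ Set.range f) :
    ∃ x : Spec (CommRingCat.of K) ⟶ X, x ≫ f = y := by
  obtain ⟨x, hx⟩ := hy
  obtain ⟨z, -, -⟩ := Scheme.Pullback.exists_preimage_pullback (f := f) (g := y) x x₀ hx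
  have : JacobsonSpace ↥(pullback f y) := LocallyOfFiniteType.jacobsonSpace (pullback.snd f y)
  obtain ⟨z', hz'⟩ : (closedPoints ↥(pullback f y)).Nonempty := by
    by_contra hcon
    rw [Set.not_nonempty_iff_eq_empty] at hcon
    have h1 := closure_closedPoints (X := ↥(pullback f y))
    rw [hcon, closure_empty] at h1
    have := Set.mem_univ z
    rw [← h1] at this
    exact this
  exact ⟨pointOfClosedPoint (pullback.snd f y) z' hz' ≫ pullback.fst f y, by
    rw [Category.assoc, pullback.condition, ← Category.assoc, pointOfClosedPoint_comp, Category.id_comp]⟩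

/-- Morphisms agreeing locally are equal. -/
theorem eq_of_local {X Y : Scheme.{u}} (f g : X ⟶ Y) (h : ∀ x : X, ∃ (X' : Scheme.{u}) (j : X' ⟶ X),
    IsOpenImmersion j ∧ x ∈ Set.range j ∧ j ≫ f = j ≫ g) : f = g := by
  choose X' j hj hx he using h
  let 𝒰 : Scheme.OpenCover.{u} X := Scheme.openCoverOfIsOpenCover X (fun x => (j x).opensRange) (by
    rw [TopologicalSpace.IsOpenCover, eq_top_iff]
    intro x _
    exact TopologicalSpace.Opens.mem_iSup.2 ⟨x, hx x⟩)
  refine Scheme.Cover.hom_ext 𝒰 _ _ fun x => ?_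
  change (j x).opensRange.ι ≫ f = (j x).opensRange.ι ≫ g
  rw [← Scheme.Hom.isoOpensRange_inv_comp, Category.assoc, Category.assoc, he]

section

variable {S : Scheme.{u}} [IsAffine S] {Q W : Over S} [GrpObj Q] [GrpObj W] (ρ : Q ⟶ W)
  {Γ : Type} [Group Γ] [Finite Γ] (φ₀ : Γ →* (𝟙_ (Over S) ⟶ Q))

/-- The hypothesis: points of `Hom(Γ, W)` with values in a valuation ring with algebraically closed fraction
field lie in the union of the orbits of the `φ₀ ∘ α` if they do generically. -/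
def ValHyp : Prop :=
  ∀ (V : Type u) [CommRing V] [IsDomain V] [ValuationRing V] (K : Type u) [Field K] [IsAlgClosed K]
    [Algebra V K] [IsFractionRing V K] (s : Spec (.of V) ⟶ S) (y : Γ →* (Over.mk s ⟶ W)) (α : MulAut Γ)
    (g : Over.mk (Spec.map (CommRingCat.ofHom (algebraMap V K)) ≫ s) ⟶ Q),
    (∀ γ, (Over.homMk (Spec.map (CommRingCat.ofHom (algebraMap V K))) rfl : _ ⟶ Over.mk s) ≫ y γ =
      (g * (toUnit _ ≫ φ₀ (α γ)) * g⁻¹) ≫ ρ) →
    ∃ (β : MulAut Γ) (h : Over.mk s ⟶ Q), ∀ γ, y γ = (h * (toUnit _ ≫ φ₀ (β γ)) * h⁻¹) ≫ ρ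

variable {ρ φ₀} [Smooth Q.hom] [IsSeparated Q.hom] [QuasiCompact Q.hom] [IsMonHom ρ] [Mono ρ]
  {H H' : Over S} {υ : Γ →* (H ⟶ Q)} (hH : IsHomScheme Q Γ H υ) {υ' : Γ →* (H' ⟶ W)}
  (hH' : IsHomScheme W Γ H' υ') (κ : H ⟶ H') (hκ : ∀ γ, κ ≫ υ' γ = υ γ ≫ ρ)

include hH hκ in
omit [IsAffine S] [Smooth Q.hom] [IsSeparated Q.hom] [QuasiCompact Q.hom] [IsMonHom ρ] [Finite Γ] in
lemma mono_kappa : Mono κ := by
  refine ⟨fun a b hab => HomAff.hom_ext hH fun γ => ?_⟩
  rw [← cancel_mono ρ, Category.assoc, Category.assoc, ← hκ, ← Category.assoc, ← Category.assoc, hab]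

include hH hH' hκ in
omit [IsMonHom ρ] [Smooth Q.hom] [IsSeparated Q.hom] in
/-- The union of the orbits is closed in `Hom(Γ, W)`. -/
theorem isClosedImmersion_union [IsAffineHom H'.hom] [LocallyOfFinitePresentation H.hom]
    (VT : ValHyp.{u} ρ φ₀) (o : MulAut Γ → (Q ⟶ H))
    (ho : ∀ (α : MulAut Γ) (X : Over S) (g : X ⟶ Q) (γ : Γ), (g ≫ o α) ≫ υ γ = g * (toUnit X ≫ φ₀ (α γ)) * g⁻¹)
    (hsm : ∀ α, Smooth (o α).left) (U : H.left.Opens) (hU : (U : Set H.left) = ⋃ α, Set.range (o α).left) :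
    IsClosedImmersion (U.ι ≫ κ.left) := by
  have h1 : Mono κ := mono_kappa hH κ hκ
  have h2 : Mono κ.left := inferInstance
  have haff : IsAffine H'.left := isAffine_of_isAffineHom H'.hom
  have hQc : CompactSpace Q.left :=
    (HasAffineProperty.iff_of_isAffine (P := @QuasiCompact) (f := Q.hom)).1 inferInstance
  have hUc : CompactSpace U := by
    apply isCompact_iff_compactSpace.1
    rw [hU]
    exact isCompact_iUnion fun α => isCompact_range (o α).left.continuous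
  have h3 : QuasiCompact (U.ι ≫ κ.left) :=
    (HasAffineProperty.iff_of_isAffine (P := @QuasiCompact) (f := U.ι ≫ κ.left)).2 hUc
  have h4 : LocallyOfFiniteType (U.ι ≫ κ.left) := by
    have h5 : (U.ι ≫ κ.left) ≫ H'.hom = U.ι ≫ H.hom := by rw [Category.assoc, Over.w]
    have h6 : LocallyOfFiniteType ((U.ι ≫ κ.left) ≫ H'.hom) := by rw [h5]; infer_instance
    exact locallyOfFiniteType_of_comp _ H'.hom
  apply H824.ImmVal.isClosedImmersion_of_valuative
  intro R _ _ _ K _ _ _ y a hya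
  obtain ⟨R₁, K₁, _, _, _, _, _, _, _, φ, y₁, hφ, hφl, hy₁⟩ :=
    H832.ValExt.exists_valuationRing (𝟙 H'.left) y ⟨_, rfl⟩
  rw [Category.comp_id] at hy₁
  have hinj : Function.Injective ((algebraMap R₁ K₁).comp φ) := (IsFractionRing.injective R₁ K₁).comp hφ
  let χ : K →+* K₁ := IsFractionRing.lift hinj
  have hχ : χ.comp (algebraMap R K) = (algebraMap R₁ K₁).comp φ := by
    ext r
    exact IsFractionRing.lift_algebraMap hinj r
  let a₁ : Spec (CommRingCat.of K₁) ⟶ U := Spec.map (CommRingCat.ofHom χ) ≫ a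
  have ha₁ : a₁ ≫ U.ι ≫ κ.left = Spec.map (CommRingCat.ofHom (algebraMap R₁ K₁)) ≫ y₁ := by
    simp only [a₁, Category.assoc]
    rw [hya, hy₁, ← Category.assoc, ← Category.assoc, ← Spec.map_comp, ← Spec.map_comp, ← CommRingCat.ofHom_comp,
      ← CommRingCat.ofHom_comp, hχ]
  let x₀ : Spec (CommRingCat.of K₁) := IsLocalRing.closedPoint K₁
  obtain ⟨α, hα⟩ : ∃ α, (a₁ ≫ U.ι) x₀ ∈ Set.range (o α).left := by
    have h5 : (a₁ ≫ U.ι) x₀ ∈ (U : Set H.left) := by
      rw [Scheme.Hom.comp_apply]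
      exact (a₁ x₀).2
    rw [hU] at h5
    exact Set.mem_iUnion.1 h5
  have := hsm α
  obtain ⟨g₀, hg₀⟩ := exists_lift_of_mem_range (o α).left (a₁ ≫ U.ι) x₀ hα
  let s₁ : Spec (CommRingCat.of R₁) ⟶ S := y₁ ≫ H'.hom
  let g : Over.mk (Spec.map (CommRingCat.ofHom (algebraMap R₁ K₁)) ≫ s₁) ⟶ Q := Over.homMk g₀ (by
    change g₀ ≫ Q.hom = Spec.map (CommRingCat.ofHom (algebraMap R₁ K₁)) ≫ y₁ ≫ H'.hom
    have h5 := congrArg (fun k => k ≫ H'.hom) ha₁
    simp only [Category.assoc, Over.w] at h5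
    rw [← h5, ← Over.w (o α), ← Category.assoc, hg₀, Category.assoc])
  let yy : Over.mk s₁ ⟶ H' := Over.homMk y₁ rfl
  have hyy : (Over.homMk (Spec.map (CommRingCat.ofHom (algebraMap R₁ K₁))) rfl : _ ⟶ Over.mk s₁) ≫ yy =
      (g ≫ o α) ≫ κ := by
    apply Over.OverMorphism.ext
    change Spec.map (CommRingCat.ofHom (algebraMap R₁ K₁)) ≫ y₁ = (g₀ ≫ (o α).left) ≫ κ.left
    rw [hg₀, Category.assoc, ha₁]
  obtain ⟨β, h, hh⟩ := VT R₁ K₁ s₁ ((InfChart.pre W yy).comp υ') α g (by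
    intro γ
    change _ ≫ yy ≫ υ' γ = _
    refine (Category.assoc _ _ _).symm.trans ?_
    rw [hyy, Category.assoc, hκ, ← ho]
    exact (Category.assoc _ _ _).symm)
  have hyy2 : yy = (h ≫ o β) ≫ κ := by
    refine HomAff.hom_ext hH' fun γ => ?_
    have h5 := hh γ
    change yy ≫ υ' γ = _ at h5
    rw [h5, Category.assoc, hκ, ← ho]
    exact Category.assoc _ _ _
  have hr : Set.range (h ≫ o β).left ⊆ Set.range U.ι := by
    rintro _ ⟨z, rfl⟩
    rw [Scheme.Opens.range_ι, hU, Over.comp_left, Scheme.Hom.comp_apply]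
    exact Set.mem_iUnion.2 ⟨β, ⟨_, rfl⟩⟩
  refine H824.ImmVal.exists_lift_of_extension (U.ι ≫ κ.left) φ hφ y
    (IsOpenImmersion.lift U.ι (h ≫ o β).left hr) ?_
  rw [← Category.assoc, IsOpenImmersion.lift_fac, ← hy₁]
  exact (congrArg (fun k => k.left) hyy2).symm

end

section act

variable {S : Scheme.{u}} {Q : Over S} [GrpObj Q] {Γ : Type} [Group Γ]

/-- Lifting morphisms over `S` through an open subscheme. -/
theorem exists_liftOpen {P H X : Over S} (j : P ⟶ H) [IsOpenImmersion j.left] (f : X ⟶ H)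
    (h : Set.range f.left ⊆ Set.range j.left) : ∃ f' : X ⟶ P, f' ≫ j = f := by
  refine ⟨Over.homMk (IsOpenImmersion.lift j.left f.left h) ?_, ?_⟩
  · rw [← Over.w j, ← Category.assoc, IsOpenImmersion.lift_fac, Over.w]
  · apply Over.OverMorphism.ext
    exact IsOpenImmersion.lift_fac _ _ _

/-- A family of endomorphisms compatible with the composition of automorphisms of `Γ` gives an action. -/
theorem exists_action {P : Over S} (a : MulAut Γ → (P ⟶ P)) (h1 : a 1 = 𝟙 P)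
    (hmul : ∀ α β, a (α * β) = a α ≫ a β) : ∃ ρ : ULift.{u} (MulAut Γ) →* Aut P,
      ∀ α, (ρ α).hom = a α.down⁻¹ := by
  have h2 : ∀ α, a α ≫ a α⁻¹ = 𝟙 P := fun α => by rw [← hmul, mul_inv_cancel, h1]
  have h3 : ∀ α, a α⁻¹ ≫ a α = 𝟙 P := fun α => by rw [← hmul, inv_mul_cancel, h1]
  refine ⟨{ toFun := fun α => ⟨a α.down⁻¹, a α.down, h3 _, h2 _⟩, map_one' := ?_, map_mul' := ?_ },
    fun α => rfl⟩
  · apply Iso.ext
    change a (1 : MulAut Γ)⁻¹ = 𝟙 P
    rw [inv_one, h1]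
  · intro α β
    apply Iso.ext
    change a (α.down * β.down)⁻¹ = a β.down⁻¹ ≫ a α.down⁻¹
    rw [_root_.mul_inv_rev, hmul]

end act

section main

variable {S : Scheme.{u}} [IsAffine S] {Q W : Over S} [GrpObj Q] [GrpObj W] {ρ : Q ⟶ W}
  {Γ : Type} [Group Γ] [Finite Γ] {φ₀ : Γ →* (𝟙_ (Over S) ⟶ Q)}

/-- **The quotient of `Q` by the normaliser of a finite group with closed orbit.** -/
theorem exists_quot_of [Smooth Q.hom] [IsSeparated Q.hom] [QuasiCompact Q.hom] [IsMonHom ρ] [Mono ρ]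
    [IsAffineHom W.hom] (hn : Inv (Nat.card Γ) S)
    (hfree : ∀ (K : Type u) [Field K] (f : Spec (.of K) ⟶ S) (γ : Γ), toUnit (Over.mk f) ≫ φ₀ γ = 1 → γ = 1)
    (VT : ValHyp.{u} ρ φ₀) :
    ∃ (𝒯 : Over S) (q : Q ⟶ 𝒯), IsAffine 𝒯.left ∧ IsAffineHom 𝒯.hom ∧ Smooth 𝒯.hom ∧ Smooth q.left ∧
      Surjective q.left ∧ ∀ (X : Over S) (g h : X ⟶ Q), g ≫ q = h ≫ q ↔
        ∀ x : X.left, ∃ (X' : Over S) (j : X' ⟶ X), IsOpenImmersion j.left ∧ x ∈ Set.range j.left ∧
          ∃ α : MulAut Γ, ∀ γ, (j ≫ g) * (toUnit X' ≫ φ₀ γ) * (j ≫ g)⁻¹ =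
            (j ≫ h) * (toUnit X' ≫ φ₀ (α γ)) * (j ≫ h)⁻¹ := by
  obtain ⟨H, υ, hH, hHs, hHfp, -⟩ := HomFin.exists_rep Q Γ
  obtain ⟨H', υ', hH', hHa'⟩ := HomAff.exists_rep W Γ
  have := hHfp inferInstance
  have hHsm : Smooth H.hom := smooth_rep hH hn
  -- the homomorphism `κ`
  let post : (H ⟶ Q) →* (H ⟶ W) :=
    { toFun := fun x => x ≫ ρ, map_one' := MonObj.one_comp _, map_mul' := fun x y => MonObj.mul_comp x y ρ }
  obtain ⟨κ, hκ⟩ := HomAff.exists_pt hH' (post.comp υ)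
  replace hκ : ∀ γ, κ ≫ υ' γ = υ γ ≫ ρ := hκ
  -- the orbits
  choose o ho using fun α : MulAut Γ => HomAff.exists_orb hH (φ₀.comp α.toMonoidHom)
  replace ho : ∀ (α : MulAut Γ) (X : Over S) (g : X ⟶ Q) (γ : Γ),
      (g ≫ o α) ≫ υ γ = g * (toUnit X ≫ φ₀ (α γ)) * g⁻¹ := ho
  have hsm : ∀ α, Smooth (o α).left := fun α =>
    HomAff.smooth_orb hH hn (φ₀.comp α.toMonoidHom) (o α) (ho α)
  -- the action
  choose a ha using fun α : MulAut Γ => HomAff.exists_pt hH (υ.comp α.toMonoidHom)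
  replace ha : ∀ (α : MulAut Γ) (γ : Γ), a α ≫ υ γ = υ (α γ) := ha
  have hoa : ∀ α β, o α ≫ a β = o (α * β) := fun α β => HomAff.hom_ext hH fun γ => by
    have h1 := ho α Q (𝟙 Q) (β γ)
    have h2 := ho (α * β) Q (𝟙 Q) γ
    rw [Category.id_comp] at h1 h2
    rw [Category.assoc, ha, h1, h2]
    rfl
  have ha1 : a 1 = 𝟙 H := HomAff.hom_ext hH fun γ => by rw [ha, Category.id_comp]; rfl
  have hamul : ∀ α β, a (α * β) = a α ≫ a β := fun α β => HomAff.hom_ext hH fun γ => by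
    rw [ha, Category.assoc, ha, ha]
    rfl
  -- the union of the orbits
  let U : H.left.Opens := ⟨⋃ α, Set.range (o α).left, isOpen_iUnion fun α =>
    (o α).left.isOpenMap.isOpen_range⟩
  have hU : (U : Set H.left) = ⋃ α, Set.range (o α).left := rfl
  have hcl := isClosedImmersion_union hH hH' κ hκ VT o ho hsm U hU
  let P : Over S := Over.mk (U.ι ≫ H.hom)
  let j : P ⟶ H := Over.homMk U.ι rfl
  have hj : IsOpenImmersion j.left := inferInstanceAs (IsOpenImmersion U.ι)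
  have hjm : Mono j := Over.mono_of_mono_left j
  have hrange : Set.range j.left = ⋃ α, Set.range (o α).left := (Scheme.Opens.range_ι U).trans hU
  have haff : IsAffine H'.left := isAffine_of_isAffineHom H'.hom
  have hPaff : IsAffine P.left := isAffine_of_isAffineHom (U.ι ≫ κ.left)
  have hPaff' : IsAffineHom P.hom := by
    have h5 : P.hom = (U.ι ≫ κ.left) ≫ H'.hom := by
      change U.ι ≫ H.hom = _
      rw [Category.assoc, Over.w]
    rw [h5]
    exact MorphismProperty.comp_mem (W := @IsAffineHom) _ _ inferInstance inferInstance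
  have hPsm : Smooth P.hom := inferInstanceAs (Smooth (U.ι ≫ H.hom))
  choose o' ho' using fun α => exists_liftOpen j (o α) (by
    rw [hrange]
    exact Set.subset_iUnion (fun β => Set.range (o β).left) α)
  choose a' ha' using fun α => exists_liftOpen j (j ≫ a α) (by
    rw [hrange]
    rintro _ ⟨z, rfl⟩
    have h5 : j.left z ∈ ⋃ β, Set.range (o β).left := by
      rw [← hrange]
      exact ⟨z, rfl⟩
    obtain ⟨β, w, hw⟩ := Set.mem_iUnion.1 h5
    refine Set.mem_iUnion.2 ⟨β * α, w, ?_⟩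
    rw [← hoa, Over.comp_left, Over.comp_left, Scheme.Hom.comp_apply, Scheme.Hom.comp_apply, hw])
  have hoa' : ∀ α β, o' α ≫ a' β = o' (α * β) := fun α β => by
    rw [← cancel_mono j, Category.assoc, ha', reassoc_of% (ho' α), hoa, ho']
  obtain ⟨A, hA⟩ := exists_action a' (by
      rw [← cancel_mono j, ha', ha1, Category.id_comp, Category.comp_id])
    (fun α β => by
      rw [← cancel_mono j, ha', Category.assoc, ha', reassoc_of% (ha' α), hamul])
  have hlift : ∀ (K : Type u) [Field K] [IsAlgClosed K] (ξ : Spec (CommRingCat.of K) ⟶ P.left),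
      ∃ (β : MulAut Γ) (g : Over.mk (ξ ≫ P.hom) ⟶ Q), Over.homMk ξ rfl = g ≫ o' β := by
    intro K _ _ ξ
    let x₀ : Spec (CommRingCat.of K) := IsLocalRing.closedPoint K
    have h5 : (ξ ≫ j.left) x₀ ∈ ⋃ β, Set.range (o β).left := by
      rw [← hrange, Scheme.Hom.comp_apply]
      exact ⟨_, rfl⟩
    obtain ⟨β, hβ⟩ := Set.mem_iUnion.1 h5
    have := hsm β
    obtain ⟨g₀, hg₀⟩ := exists_lift_of_mem_range (o β).left (ξ ≫ j.left) x₀ hβ
    refine ⟨β, Over.homMk g₀ ?_, ?_⟩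
    · change g₀ ≫ Q.hom = ξ ≫ P.hom
      rw [← Over.w (o β), ← Category.assoc, hg₀, Category.assoc, Over.w]
    · rw [← cancel_mono j, Category.assoc, ho']
      apply Over.OverMorphism.ext
      exact hg₀.symm
  obtain ⟨M, p, hpe, hps, -, hMa, hMs, hMaff, hpinv, hploc⟩ := RedSub.H647.FreeQ.exists_freeQuot P A (by
    intro K _ _ ξ α hα
    obtain ⟨β, g, hg⟩ := hlift K ξ
    have h6 : g ≫ o (β * α.down⁻¹) = g ≫ o β := by
      have h7 : (Over.homMk ξ rfl : Over.mk (ξ ≫ P.hom) ⟶ P) ≫ (A α).hom = Over.homMk ξ rfl := by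
        apply Over.OverMorphism.ext
        exact hα
      rw [hA, hg, Category.assoc, hoa'] at h7
      have h8 := congrArg (fun k => k ≫ j) h7
      simpa only [Category.assoc, ho'] using h8
    apply ULift.ext
    rw [ULift.one_down, ← inv_eq_one]
    ext γ
    have h9 := congrArg (fun k => k ≫ υ γ) h6
    simp only [ho] at h9
    rw [mul_left_inj, mul_right_inj] at h9
    have h10 := hfree K (ξ ≫ P.hom) ((β * α.down⁻¹) γ * (β γ)⁻¹) (by
      rw [map_mul, map_inv, MonObj.comp_mul, GrpObj.comp_inv, h9, mul_inv_cancel])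
    rw [mul_inv_eq_one] at h10
    exact β.injective h10)
  have hq : ∀ α, o' α ≫ p = o' 1 ≫ p := fun α => by
    have h6 : a' α ≫ p = p := by
      have h5 := hpinv (ULift.up α⁻¹)
      rwa [hA, _root_.inv_inv] at h5
    have h7 := hoa' 1 α
    rw [_root_.one_mul] at h7
    rw [← h7, Category.assoc, h6]
  have hosm : Smooth (o' 1).left := by
    have h6 : IsPullback (𝟙 Q.left) (o' 1).left (o 1).left j.left := by
      refine IsPullback.of_isLimit' ⟨?_⟩ ?_
      · rw [Category.id_comp, ← ho' 1, Over.comp_left]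
      · exact PullbackCone.IsLimit.mk _ (fun s => s.fst) (fun s => Category.comp_id _)
          (fun s => by
            rw [← cancel_mono j.left, Category.assoc, ← Over.comp_left, ho', s.condition])
          (fun s m hm _ => by rwa [Category.comp_id] at hm)
    have := hsm 1
    exact MorphismProperty.of_isPullback h6 inferInstance
  refine ⟨M, o' 1 ≫ p, hMaff, hMa, hMs, ?_, ?_, ?_⟩
  · rw [Over.comp_left]
    infer_instance
  · refine ⟨fun z => ?_⟩
    obtain ⟨w, rfl⟩ := p.left.surjective z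
    have h5 : j.left w ∈ ⋃ β, Set.range (o β).left := by
      rw [← hrange]
      exact ⟨w, rfl⟩
    obtain ⟨β, v, hv⟩ := Set.mem_iUnion.1 h5
    refine ⟨v, ?_⟩
    rw [← hq β, Over.comp_left, Scheme.Hom.comp_apply]
    congr 1
    apply j.left.injective
    rw [← hv, ← ho' β, Over.comp_left, Scheme.Hom.comp_apply]
  · intro X g h
    constructor
    · intro hgh x
      obtain ⟨X', i, hi, hx, α, hα⟩ := hploc X (h ≫ o' 1) (g ≫ o' 1) (by
        rw [Category.assoc, Category.assoc, hgh]) x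
      refine ⟨X', i, hi, hx, α.down⁻¹, fun γ => ?_⟩
      rw [hA, Category.assoc, hoa', _root_.one_mul] at hα
      have h8 := congrArg (fun k => (k ≫ j) ≫ υ γ) hα
      simp only [Category.assoc, reassoc_of% (ho' 1), reassoc_of% (ho' α.down⁻¹)] at h8
      have h9 := ho 1 X' (i ≫ g) γ
      have h10 := ho α.down⁻¹ X' (i ≫ h) γ
      simp only [Category.assoc] at h9 h10
      rw [h9, h10] at h8
      exact h8
    · intro hloc
      apply Over.OverMorphism.ext
      apply eq_of_local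
      intro x
      obtain ⟨X', i, hi, hx, α, hα⟩ := hloc x
      refine ⟨X'.left, i.left, hi, hx, ?_⟩
      have h8 : (i ≫ g) ≫ o 1 = (i ≫ h) ≫ o α := HomAff.hom_ext hH fun γ => by
        rw [ho, ho]
        exact hα γ
      have h9 : (i ≫ g) ≫ o' 1 = (i ≫ h) ≫ o' α := by
        rw [← cancel_mono j, Category.assoc (i ≫ g), Category.assoc (i ≫ h), ho', ho', h8]
      have h10 : i ≫ g ≫ o' 1 ≫ p = i ≫ h ≫ o' 1 ≫ p := by
        have h11 := congrArg (fun k => k ≫ p) h9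
        simp only [Category.assoc] at h11
        rw [h11, hq α]
      exact congrArg (fun k => k.left) h10

end main

/-- The version of `exists_quot_of` with `W = GL_m`. -/
theorem exists_quot (S : Scheme.{u}) [IsAffine S] {Q : Over S} [GrpObj Q] [Smooth Q.hom] [IsSeparated Q.hom]
    [QuasiCompact Q.hom] {m : Type u} [Fintype m] [DecidableEq m] (ρ : Q ⟶ GLn.GLS m S) [IsMonHom ρ] [Mono ρ]
    {Γ : Type} [CommGroup Γ] [Finite Γ] (hn : HomFin.Inv (Nat.card Γ) S) (φ₀ : Γ →* (𝟙_ (Over S) ⟶ Q))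
    (hfree : ∀ (K : Type u) [Field K] (f : Spec (.of K) ⟶ S) (γ : Γ), toUnit (Over.mk f) ≫ φ₀ γ = 1 → γ = 1)
    (VT : ∀ (V : Type u) [CommRing V] [IsDomain V] [ValuationRing V] (K : Type u) [Field K] [IsAlgClosed K]
      [Algebra V K] [IsFractionRing V K] (s : Spec (.of V) ⟶ S) (y : Γ →* (Over.mk s ⟶ GLn.GLS m S))
      (α : MulAut Γ) (g : Over.mk (Spec.map (CommRingCat.ofHom (algebraMap V K)) ≫ s) ⟶ Q),
      (∀ γ, (Over.homMk (Spec.map (CommRingCat.ofHom (algebraMap V K))) rfl : _ ⟶ Over.mk s) ≫ y γ =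
        (g * (toUnit _ ≫ φ₀ (α γ)) * g⁻¹) ≫ ρ) →
      ∃ (β : MulAut Γ) (h : Over.mk s ⟶ Q), ∀ γ, y γ = (h * (toUnit _ ≫ φ₀ (β γ)) * h⁻¹) ≫ ρ) :
    ∃ (𝒯 : Over S) (q : Q ⟶ 𝒯), IsAffine 𝒯.left ∧ IsAffineHom 𝒯.hom ∧ Smooth 𝒯.hom ∧ Smooth q.left ∧
      Surjective q.left ∧ ∀ (X : Over S) (g h : X ⟶ Q), g ≫ q = h ≫ q ↔
        ∀ x : X.left, ∃ (X' : Over S) (j : X' ⟶ X), IsOpenImmersion j.left ∧ x ∈ Set.range j.left ∧
          ∃ α : MulAut Γ, ∀ γ, (j ≫ g) * (toUnit X' ≫ φ₀ γ) * (j ≫ g)⁻¹ =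
            (j ≫ h) * (toUnit X' ≫ φ₀ (α γ)) * (j ≫ h)⁻¹ :=
  exists_quot_of (ρ := ρ) hn hfree VT

end Groth.Agent.Sga3.H819.ClosedOrbit
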