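import Groth.Agent.Sga3B.RG.BrMax
import Groth.Agent.Sga3B.RG.BrImg
import Groth.Agent.Sga3B.RG.TorusGen
import Groth.Agent.Sga3B.AlgBc

/-!
# Tori commuting with a maximal torus, over an algebraically closed field

`exists_factor_of_commute`: `K` algebraically closed, `G` affine of finite type, `i : T ⟶ G` a subtorus which is not
strictly contained in a bigger subtorus, `j : R ⟶ G` a homomorphism from a torus commuting with `i` on rational points:
then `j` factors through `i`.
-/

set_option autoImplicit false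

universe u

open CategoryTheory MonoidalCategory CartesianMonoidalCategory MonObj GrpObj AlgebraicGeometry
open Groth.Agent.Books.AffBridge Groth.Agent.Books.AffBridge2

namespace Groth.Agent.Sga3.H819.Field

open Groth.Agent.Sga3B Groth.Agent.Sga3B.RG Groth.Agent.Sga3B.RG.BrPts Groth.Agent.Sga3B.RG.BrTorus
  Groth.Agent.Sga3B.AlgBc

variable {K : Type u} [Field K] [IsAlgClosed K]

theorem aux {A : Type u} [CommRing A] [HopfAlgebra K A] [Algebra.FiniteType K A]
    {T R : Over (Spec (CommRingCat.of K))} [GrpObj T] [GrpObj R] (i : T ⟶ SpecOver K A) [IsMonHom i] [Mono i]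
    (hT : Red.IsTorus T) (hmax : IsMaxTorOver i) (j : R ⟶ SpecOver K A) [IsMonHom j] (hR : Red.IsTorus R)
    (hc : ∀ (t : 𝟙_ (Over (Spec (CommRingCat.of K))) ⟶ T) (r : 𝟙_ (Over (Spec (CommRingCat.of K))) ⟶ R),
      (t ≫ i) * (r ≫ j) = (r ≫ j) * (t ≫ i)) : ∃ f : R ⟶ T, f ≫ i = j := by
  have h1 : IsMaxTorusSub (ptsSub i) := (isMaxTorusSub_iff i hT).2 hmax
  obtain ⟨n, e, he⟩ := isTorus_iff.1 hR
  have hei : IsMonHom e.inv := inferInstance
  obtain ⟨φ, hφ⟩ := exists_bialgHom_of_isMonHom K (e.inv ≫ j)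
  have h2 : IsTorusSub (Pt.map φ).range := BrImg.isTorusSub_range φ
  have h3 : ptsSub j = (Pt.map φ).range :=
    ptsSub_eq_range j φ e (by rw [hφ, Iso.hom_inv_id_assoc])
  have h4 : IsTorusSub (ptsSub i ⊔ ptsSub j) := TorusGen.isTorusSub_sup h1.1 (h3 ▸ h2) (by
    rintro x ⟨t, ht⟩ y ⟨r, hr⟩
    apply (ptEquiv K A).injective
    rw [map_mul, map_mul, ← ht, ← hr, hc])
  have h5 : ptsSub j ≤ ptsSub i := by
    have h6 := h1.2 _ h4 le_sup_left
    calc ptsSub j ≤ ptsSub i ⊔ ptsSub j := le_sup_right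
      _ = ptsSub i := h6
  have := isClosedImmersion_of_torus i hT
  have := TorusAlgClosed.smooth_of_isTorus hR
  exact exists_factor_of_le j i h5

/-- **A torus commuting with a maximal torus maps into it** (algebraically closed field). -/
theorem exists_factor_of_commute {G T R : Over (Spec (CommRingCat.of K))} [GrpObj G] [GrpObj T] [GrpObj R]
    [IsAffine G.left] [LocallyOfFiniteType G.hom] (i : T ⟶ G) [IsMonHom i] [Mono i]
    (hT : Red.IsTorus T) (hmax : IsMaxTorOver i) (j : R ⟶ G) [IsMonHom j] (hR : Red.IsTorus R)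
    (hc : ∀ (t : 𝟙_ (Over (Spec (CommRingCat.of K))) ⟶ T) (r : 𝟙_ (Over (Spec (CommRingCat.of K))) ⟶ R),
      (t ≫ i) * (r ≫ j) = (r ≫ j) * (t ≫ i)) : ∃ f : R ⟶ T, f ≫ i = j := by
  obtain ⟨A, _, _, e, he⟩ := exists_hopf K G
  have hinv : IsMonHom e.inv := inferInstance
  have hft : Algebra.FiniteType K A := by
    rw [← Books.AffBridge2.locallyOfFiniteType_specOver_iff]
    have h1 : (SpecOver K A).hom = e.inv.left ≫ G.hom := (Over.w e.inv).symm
    rw [h1]
    infer_instance
  obtain ⟨f, hf⟩ := aux (i ≫ e.hom) hT (by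
    intro T' _ k _ _ f hT' hf
    exact hmax T' (k ≫ e.inv) f hT' (by rw [← Category.assoc, hf, Category.assoc, Iso.hom_inv_id, Category.comp_id]))
    (j ≫ e.hom) hR (by
      intro t r
      rw [← Category.assoc, ← Category.assoc, ← MonObj.mul_comp, hc, MonObj.mul_comp])
  exact ⟨f, by rw [← cancel_mono e.hom, Category.assoc, hf]⟩

end Groth.Agent.Sga3.H819.Field
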