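import Groth.Agent.Sga3.H797.HomFin

/-!
# Homomorphisms from a finite group to an affine group scheme

* `exists_rep`: for `G` affine over `S` the scheme of homomorphisms from the finite group `Γ` to `G` is affine
  over `S`.
* `hom_ext`: two points of the scheme of homomorphisms agree if they give the same homomorphisms.
* `smooth_orb`: the orbit map of a homomorphism over the base is smooth.
-/

set_option autoImplicit false
universe u
open CategoryTheory MonoidalCategory CartesianMonoidalCategory MonObj GrpObj AlgebraicGeometry Limits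

namespace Groth.Agent.Sga3.H819.HomAff

open Groth.Agent.Sga3.H797 Groth.Agent.Sga3.H797.HomFin

variable {S : Scheme.{u}}

/-- Finite powers of an affine scheme over `S`. -/
theorem exists_pow (G : Over S) [IsAffineHom G.hom] (n : ℕ) : ∃ (P : Over S) (p : Fin n → (P ⟶ G)),
    (∀ (T : Over S) (f : Fin n → (T ⟶ G)), ∃! t : T ⟶ P, ∀ i, t ≫ p i = f i) ∧ IsAffineHom P.hom := by
  induction n with
  | zero =>
    refine ⟨𝟙_ (Over S), Fin.elim0, fun T f => ⟨toUnit T, fun i => i.elim0, fun _ _ => toUnit_unique _ _⟩, ?_⟩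
    exact inferInstanceAs (IsAffineHom (𝟙 S))
  | succ n ih =>
    obtain ⟨P, p, hP, h1⟩ := ih
    refine ⟨G ⊗ P, Fin.cons (fst G P) (fun i => snd G P ≫ p i), ?_, ?_⟩
    · intro T f
      obtain ⟨t, ht, htu⟩ := hP T (fun i => f i.succ)
      refine ⟨lift (f 0) t, fun i => ?_, fun t' ht' => ?_⟩
      · refine Fin.cases ?_ (fun i => ?_) i
        · simp
        · simp only [Fin.cons_succ, lift_snd_assoc]
          exact ht i
      · apply CartesianMonoidalCategory.hom_ext
        · rw [lift_fst]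
          exact ht' 0
        · rw [lift_snd]
          apply htu
          intro i
          have := ht' i.succ
          simp only [Fin.cons_succ] at this
          rw [Category.assoc]
          exact this
    · have h3 : IsAffineHom (pullback.fst G.hom P.hom) :=
        MorphismProperty.pullback_fst (P := @IsAffineHom) _ _ h1
      have h4 : IsAffineHom (pullback.fst G.hom P.hom ≫ G.hom) :=
        MorphismProperty.comp_mem (W := @IsAffineHom) _ _ h3 inferInstance
      exact h4

/-- Powers indexed by a finite type. -/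
theorem exists_pow' (G : Over S) [IsAffineHom G.hom] (J : Type*) [Finite J] : ∃ (P : Over S) (p : J → (P ⟶ G)),
    (∀ (T : Over S) (f : J → (T ⟶ G)), ∃! t : T ⟶ P, ∀ i, t ≫ p i = f i) ∧ IsAffineHom P.hom := by
  obtain ⟨P, p, hP, h1⟩ := exists_pow G (Nat.card J)
  let e := Finite.equivFin J
  refine ⟨P, fun j => p (e j), fun T f => ?_, h1⟩
  obtain ⟨t, ht, htu⟩ := hP T (fun i => f (e.symm i))
  refine ⟨t, fun i => ?_, fun t' ht' => htu t' fun i => ?_⟩
  · have := ht (e i)
    rwa [Equiv.symm_apply_apply] at this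
  · have := ht' (e.symm i)
    simp only [Equiv.apply_symm_apply] at this
    exact this

variable (G : Over S) [GrpObj G] (Γ : Type*) [Group Γ]

/-- **Representability** by a scheme affine over `S`, for `G` affine over `S`. -/
theorem exists_rep [Finite Γ] [IsAffineHom G.hom] : ∃ (H : Over S) (υ : Γ →* (H ⟶ G)),
    IsHomScheme G Γ H υ ∧ IsAffineHom H.hom := by
  obtain ⟨P, p, hP, hP1⟩ := exists_pow' G Γ
  obtain ⟨W, q, hW, hW1⟩ := exists_pow' G (Γ × Γ)
  obtain ⟨a, ha, -⟩ := hW P (fun x => p (x.1 * x.2))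
  obtain ⟨b, hb, -⟩ := hW P (fun x => p x.1 * p x.2)
  obtain ⟨H, z, hz, huniv, -⟩ := exists_eq a b
  have hmono : Mono z := Over.mono_of_mono_left z
  have hz1 : ∀ γ δ, z ≫ p (γ * δ) = (z ≫ p γ) * (z ≫ p δ) := by
    intro γ δ
    have h1 := (huniv H z).1 ⟨𝟙 _, Category.id_comp _⟩
    have h2 := congrArg (fun f => f ≫ q (γ, δ)) h1
    simp only [Category.assoc, ha, hb] at h2
    rw [h2, MonObj.comp_mul]
  refine ⟨H, MonoidHom.mk' (fun γ => z ≫ p γ) hz1, ⟨fun T φ => ?_⟩, ?_⟩
  · obtain ⟨t, ht, htu⟩ := hP T φ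
    have h3 : t ≫ a = t ≫ b := by
      exact (hW T (fun x => φ (x.1 * x.2))).unique (fun i => by rw [Category.assoc, ha, ht])
        (fun i => by rw [Category.assoc, hb, MonObj.comp_mul, ht, ht, map_mul])
    obtain ⟨t', ht'⟩ := (huniv T t).2 h3
    refine ⟨t', fun γ => ?_, fun t'' ht'' => ?_⟩
    · change t' ≫ z ≫ p γ = φ γ
      rw [← Category.assoc, ht', ht]
    · rw [← cancel_mono z, ht']
      apply htu
      intro γ
      rw [Category.assoc]
      exact ht'' γ
  · have : IsAffineHom (z.left ≫ P.hom) := inferInstance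
    rwa [Over.w] at this

variable {G Γ}

section

variable {H : Over S} {υ : Γ →* (H ⟶ G)} (hH : IsHomScheme G Γ H υ)

include hH

/-- Points of the scheme of homomorphisms are determined by the homomorphisms. -/
theorem hom_ext {T : Over S} {t t' : T ⟶ H} (h : ∀ γ, t ≫ υ γ = t' ≫ υ γ) : t = t' :=
  (hH.existsUnique T ((InfChart.pre G t').comp υ)).unique h fun _ => rfl

/-- Every family of homomorphisms gives a point. -/
theorem exists_pt {T : Over S} (φ : Γ →* (T ⟶ G)) : ∃ t : T ⟶ H, ∀ γ, t ≫ υ γ = φ γ :=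
  (hH.existsUnique T φ).exists

/-- The orbit map. -/
theorem exists_orb (φ : Γ →* (𝟙_ (Over S) ⟶ G)) : ∃ o : G ⟶ H, ∀ (X : Over S) (g : X ⟶ G) γ,
    (g ≫ o) ≫ υ γ = g * (toUnit X ≫ φ γ) * g⁻¹ := by
  obtain ⟨o, ho⟩ := exists_pt hH ((MulAut.conj (𝟙 G)).toMonoidHom.comp ((InfChart.pre G (toUnit G)).comp φ))
  refine ⟨o, fun X g γ => ?_⟩
  rw [Category.assoc, ho]
  change g ≫ ((𝟙 G) * (toUnit G ≫ φ γ) * (𝟙 G)⁻¹) = _
  rw [MonObj.comp_mul, MonObj.comp_mul, GrpObj.comp_inv, Category.comp_id, ← Category.assoc,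
    toUnit_unique (g ≫ toUnit G) (toUnit X)]

/-- The orbit map is smooth. -/
theorem smooth_orb [Finite Γ] [Smooth G.hom] [LocallyOfFinitePresentation H.hom] (hn : Inv (Nat.card Γ) S)
    (φ : Γ →* (𝟙_ (Over S) ⟶ G)) (o : G ⟶ H)
    (ho : ∀ (X : Over S) (g : X ⟶ G) γ, (g ≫ o) ≫ υ γ = g * (toUnit X ≫ φ γ) * g⁻¹) : Smooth o.left := by
  have h1 := smooth_orbit hH hn φ (o ▷ 𝟙_ (Over S)) (whiskerRight_snd _ _) (by
    intro γ
    rw [← Category.assoc, whiskerRight_fst, ho]
    congr 3
    exact toUnit_unique _ _)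
  have h2 : o = (ρ_ G).inv ≫ (o ▷ 𝟙_ (Over S)) ≫ (ρ_ H).hom := by
    simp
  have h3 : o.left = (ρ_ G).inv.left ≫ (o ▷ 𝟙_ (Over S)).left ≫ (ρ_ H).hom.left := by
    conv_lhs => rw [h2]
    rfl
  rw [h3]
  infer_instance

end

end Groth.Agent.Sga3.H819.HomAff
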