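import Mathlib.AlgebraicGeometry.Morphisms.ClosedImmersion
import Mathlib.AlgebraicGeometry.Stalk
import Mathlib.AlgebraicGeometry.Limits
import Mathlib.CategoryTheory.Comma.Over.Pullback

/-!
# Factoring through a closed immersion can be checked over the local schemes of the base

* `isIso_of_fromSpecStalk`: a closed immersion `c : P ⟶ X` through which all `Spec O_{X,x} ⟶ X` factor is an
  isomorphism;
* `exists_factor_of_stalks`: a morphism `x : X ⟶ G` over `S` factors through the closed immersion `i : T ⟶ G` as soon as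
  it does after base change to all the local schemes `Spec O_{S,s}`.
-/

set_option autoImplicit false

universe u

open CategoryTheory Limits AlgebraicGeometry TopologicalSpace

namespace Groth.Agent.Sga3.H819.LocFactor

lemma isIso_map_homOfLE {X : Scheme.{u}} {V : X.Opens} (hV : V = ⊤) :
    IsIso (X.presheaf.map (homOfLE (le_top : V ≤ ⊤)).op) := by
  subst hV
  have : (homOfLE (le_top : (⊤ : X.Opens) ≤ ⊤)) = 𝟙 _ := rfl
  rw [this, op_id, X.presheaf.map_id]
  infer_instance

/-- A closed immersion through which all the local schemes factor is an isomorphism. -/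
theorem isIso_of_fromSpecStalk {P X : Scheme.{u}} (c : P ⟶ X) [IsClosedImmersion c]
    (h : ∀ x : X, ∃ g : Spec (X.presheaf.stalk x) ⟶ P, g ≫ c = X.fromSpecStalk x) : IsIso c := by
  rw [IsClosedImmersion.isIso_iff_ker_eq_bot]
  apply Scheme.IdealSheafData.ext
  ext U : 1
  rw [Scheme.Hom.ker_apply]
  change _ = ⊥
  rw [eq_bot_iff]
  intro a ha
  rw [RingHom.mem_ker] at ha
  change a = 0
  refine TopCat.Presheaf.section_ext X.sheaf U.1 a 0 fun x hx => ?_
  obtain ⟨g, hg⟩ := h x
  have h1 : ((X.fromSpecStalk x).app U.1).hom a = 0 := by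
    have h2 : (X.fromSpecStalk x).app U.1 = (g ≫ c).app U.1 ≫
        (Spec (X.presheaf.stalk x)).presheaf.map (eqToHom (by rw [hg])).op := by
      rw [Scheme.Hom.congr_app hg]
      simp [← Functor.map_comp]
    rw [h2]
    rw [Scheme.Hom.comp_app]
    change (((Spec (X.presheaf.stalk x)).presheaf.map _).hom) ((g.app _).hom ((c.app U.1).hom a)) = 0
    rw [ha, map_zero, map_zero]
  rw [Scheme.fromSpecStalk_app (U := U.1) hx] at h1
  have h3 : (X.fromSpecStalk x) ⁻¹ᵁ U.1 = ⊤ := by
    apply Scheme.preimage_eq_top_of_closedPoint_mem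
    rw [Scheme.fromSpecStalk_closedPoint]
    exact hx
  have h4 := isIso_map_homOfLE h3
  have h5 : IsIso ((Scheme.ΓSpecIso (X.presheaf.stalk x)).inv ≫
      (Spec (X.presheaf.stalk x)).presheaf.map (homOfLE (le_top : (X.fromSpecStalk x) ⁻¹ᵁ U.1 ≤ ⊤)).op) :=
    inferInstance
  have h6 := (ConcreteCategory.bijective_of_isIso ((Scheme.ΓSpecIso (X.presheaf.stalk x)).inv ≫
      (Spec (X.presheaf.stalk x)).presheaf.map (homOfLE (le_top : (X.fromSpecStalk x) ⁻¹ᵁ U.1 ≤ ⊤)).op)).1
  refine h6 (Eq.trans (b := 0) h1 ?_)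
  refine Eq.trans (Eq.symm ?_) (congrArg _ (map_zero (X.presheaf.germ U.1 x hx).hom).symm)
  exact map_zero (CommRingCat.Hom.hom _)

/-- Factoring through a closed immersion can be checked over the local schemes of the base. -/
theorem exists_factor_of_stalks {S : Scheme.{u}} {T G X : Over S} (i : T ⟶ G) [IsClosedImmersion i.left]
    (x : X ⟶ G)
    (h : ∀ s : S, ∃ f : (Over.pullback (S.fromSpecStalk s)).obj X ⟶ (Over.pullback (S.fromSpecStalk s)).obj T,
      f ≫ (Over.pullback (S.fromSpecStalk s)).map i = (Over.pullback (S.fromSpecStalk s)).map x) :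
    ∃ f : X ⟶ T, f ≫ i = x := by
  have hiso : IsIso (pullback.fst x.left i.left) := by
    apply isIso_of_fromSpecStalk
    intro ξ
    obtain ⟨f, hf⟩ := h (X.hom ξ)
    let k : Spec (X.left.presheaf.stalk ξ) ⟶ pullback X.hom (S.fromSpecStalk (X.hom ξ)) :=
      pullback.lift (X.left.fromSpecStalk ξ) (Spec.map (X.hom.stalkMap ξ))
        (Scheme.SpecMap_stalkMap_fromSpecStalk X.hom).symm
    have hk : k ≫ pullback.fst X.hom (S.fromSpecStalk (X.hom ξ)) = X.left.fromSpecStalk ξ :=
      pullback.lift_fst _ _ _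
    have e1 : ((Over.pullback (S.fromSpecStalk (X.hom ξ))).map i).left ≫
        pullback.fst G.hom (S.fromSpecStalk (X.hom ξ)) =
        pullback.fst T.hom (S.fromSpecStalk (X.hom ξ)) ≫ i.left := pullback.lift_fst _ _ _
    have e2 : ((Over.pullback (S.fromSpecStalk (X.hom ξ))).map x).left ≫
        pullback.fst G.hom (S.fromSpecStalk (X.hom ξ)) =
        pullback.fst X.hom (S.fromSpecStalk (X.hom ξ)) ≫ x.left := pullback.lift_fst _ _ _
    have e3 : f.left ≫ ((Over.pullback (S.fromSpecStalk (X.hom ξ))).map i).left =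
        ((Over.pullback (S.fromSpecStalk (X.hom ξ))).map x).left := by
      rw [← Over.comp_left, hf]
    refine ⟨pullback.lift (X.left.fromSpecStalk ξ)
      (k ≫ f.left ≫ pullback.fst T.hom (S.fromSpecStalk (X.hom ξ))) ?_, pullback.lift_fst _ _ _⟩
    rw [Category.assoc, Category.assoc, ← e1, ← hk, Category.assoc, ← e2, ← e3, Category.assoc]
  refine ⟨Over.homMk (inv (pullback.fst x.left i.left) ≫ pullback.snd x.left i.left) ?_, ?_⟩
  · rw [Category.assoc, ← Over.w i, ← Category.assoc (pullback.snd x.left i.left), ← pullback.condition,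
      Category.assoc, IsIso.inv_hom_id_assoc, Over.w x]
  · ext1
    change (inv (pullback.fst x.left i.left) ≫ pullback.snd x.left i.left) ≫ i.left = x.left
    rw [Category.assoc, ← pullback.condition, IsIso.inv_hom_id_assoc]

end Groth.Agent.Sga3.H819.LocFactor
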