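import Groth.Agent.Sga3.H819.Field
import Groth.Agent.Sga3.H798.SubTorus
import Groth.Agent.Sga3B.TorusBc

/-!
# Tori commuting with a maximal torus

`exists_factor_of_comm`: `G` affine and locally of finite type over any scheme `S`, `i : T ⟶ G` a maximal torus, `j : R ⟶ G`
a homomorphism from a torus whose points commute with those of `T`: then `j` factors through `i`.
-/

set_option autoImplicit false

universe u

open CategoryTheory MonoidalCategory CartesianMonoidalCategory MonObj GrpObj AlgebraicGeometry

namespace Groth.Agent.Sga3.H819.Unique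

open Groth.Agent.Sga3B Groth.Agent.Sga3.H798

/-- **A torus commuting with a maximal torus maps into it** (any base, affine group). -/
theorem exists_factor_of_comm {S : Scheme.{u}} {T R G : Over S} [GrpObj T] [GrpObj R] [GrpObj G]
    [IsAffineHom G.hom] [LocallyOfFiniteType G.hom] (i : T ⟶ G) (hi : Red.IsMaximalTorus i) (j : R ⟶ G) [IsMonHom j]
    (hR : Red.IsTorus R)
    (hcomm : ∀ (X : Over S) (t : X ⟶ T) (r : X ⟶ R), (t ≫ i) * (r ≫ j) = (r ≫ j) * (t ≫ i)) :
    ∃ f : R ⟶ T, f ≫ i = j := by
  have h1 := hi.1
  have h2 := hi.2.1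
  refine SubTorus.exists_factor i j hi.2.2.1 hR hcomm (SubTorus.fibLe_of_geomFibre fun s => ?_)
  have haf : IsAffineHom (Red.geomFibre s G).hom := by
    change IsAffineHom (Limits.pullback.snd _ _)
    infer_instance
  have : IsAffine (Red.geomFibre s G).left := isAffine_of_isAffineHom (Red.geomFibre s G).hom
  have : LocallyOfFiniteType (Red.geomFibre s G).hom := by
    change LocallyOfFiniteType (Limits.pullback.snd _ _)
    infer_instance
  exact Field.exists_factor_of_commute ((Over.pullback (Red.geomPt s)).map i) (TorusBc.isTorus_bc _ hi.2.2.1)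
    (hi.2.2.2 s) ((Over.pullback (Red.geomPt s)).map j) (TorusBc.isTorus_bc _ hR)
    (fun t r => SubTorus.comm_bc (Red.geomPt s) j i hcomm _ t r)

end Groth.Agent.Sga3.H819.Unique
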